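import Cfsg.Agent.Lib.Bender.FromB1.Comm.Model
import Cfsg.Agent.Lib.Bender.LinearTrans
import Mathlib.LinearAlgebra.Matrix.GeneralLinearGroup.Card

/-!
Commuting involutions and an element of rank one: in a counterexample `G_a` induces the full linear group on
the involutions at `a`.
-/

set_option autoImplicit false
set_option linter.unusedSectionVars false
set_option linter.style.haveILetI false
set_option linter.overlappingInstances false

namespace CfsgLib.Bender.OneFix

open MulAction Cfsg CfsgLib.Bender.TwoClosed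
open CfsgLib.Bender.B1 (Good FourIn)
open CfsgLib.SingerFive (mulE mulE_apply autE autE_apply IsSemi)

universe u

/-- The multiplications commute. -/
theorem mulE_range_comm {F : Type} [Field F] [Algebra (ZMod 2) F] :
    ∀ p ∈ (mulE : Fˣ →* (F ≃ₗ[ZMod 2] F)).range, ∀ q ∈ (mulE : Fˣ →* (F ≃ₗ[ZMod 2] F)).range, p * q = q * p := by
  rintro _ ⟨c, rfl⟩ _ ⟨d, rfl⟩
  rw [← map_mul, mul_comm, map_mul]

theorem autE_conj_mulE {F : Type} [Field F] [Algebra (ZMod 2) F] (τ : F ≃ₐ[ZMod 2] F) (c : Fˣ) :
    autE τ * mulE c * (autE τ)⁻¹ = (mulE (Units.map (τ : F →* F) c) : F ≃ₗ[ZMod 2] F) :=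
  mul_inv_eq_iff_eq_mul.mpr (LinearEquiv.ext fun x => map_mul τ (c : F) x)

theorem mulE_injective {F : Type} [Field F] [Algebra (ZMod 2) F] :
    Function.Injective (mulE : Fˣ →* (F ≃ₗ[ZMod 2] F)) := fun c d h => Units.ext (by
  simpa using LinearEquiv.congr_fun h (1 : F))

variable {G Ω : Type u} [Group G] [MulAction G Ω] [Finite G] [FaithfulSMul G Ω] (hF : OneFix G Ω)
  (hNB : NoBad G Ω) (hBel : B1.Below.{u} (Nat.card G)) (hnG : ¬ Good G Ω) {a b : Ω} (hab : b ≠ a)
  (hc : CommAt G a) {l : ℕ} {F : Type} [Field F] [Finite F] [Algebra (ZMod 2) F]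
  (hm : Model (G := G) a b l F)
include hF hNB hBel hnG hab hc hm

/-- Not every element of `G_a` is semilinear. -/
theorem exists_not_semi : ∃ g : stabilizer G a, ¬ IsSemi (hm.rho g) := by
  by_contra h
  push Not at h
  refine cz_not_cover hF hNB hBel hnG hab hc (le_antisymm (sup_le cz_le inf_le_left) fun g hg => ?_)
  obtain ⟨c, τ, hcτ⟩ := h ⟨g, hg⟩
  obtain ⟨d, hd, hdρ⟩ := hm.semi c τ
  have h1 : hm.rho (⟨g, hg⟩ * d⁻¹) = 1 := by rw [map_mul, map_inv, hdρ, hcτ, mul_inv_cancel]
  rw [show g = (g * (d : G)⁻¹) * d by group]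
  exact Subgroup.mul_mem_sup (hm.rho_eq_one.mp h1) hd

/-- The image normalising the multiplications is impossible. -/
theorem not_le_normalizer :
    ¬ hm.rho.range ≤ Subgroup.normalizer ((mulE : Fˣ →* (F ≃ₗ[ZMod 2] F)).range : Set (F ≃ₗ[ZMod 2] F)) := by
  intro h
  obtain ⟨g, hg⟩ := exists_not_semi hF hNB hBel hnG hab hc hm
  refine hg (LinearTrans.isSemi_of_normalizes fun c => ?_)
  obtain ⟨c', hc'⟩ := conj_mem_of_normalizer (h ⟨g, rfl⟩) ⟨c, rfl⟩
  exact ⟨c', hc'.symm⟩

/-- `G_a` induces the whole linear group. -/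
theorem rho_surjective (hl : l.Prime) (hl2 : l ≠ 2) : Function.Surjective hm.rho := by
  classical
  haveI : FiniteDimensional (ZMod 2) F := Module.Finite.of_finite
  have hd : Module.finrank (ZMod 2) F = l := by
    have h := Module.natCard_eq_pow_finrank (K := ZMod 2) (V := F)
    rw [hm.card, Nat.card_zmod] at h
    exact (Nat.pow_right_injective le_rfl h).symm
  set C := (mulE : Fˣ →* (F ≃ₗ[ZMod 2] F)).range with hC
  have hnot := not_le_normalizer hF hNB hBel hnG hab hc hm
  have hmem : ∀ (c : Fˣ) (τ : F ≃ₐ[ZMod 2] F), mulE c * autE τ ∈ hm.rho.range := fun c τ => by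
    obtain ⟨d, -, hd⟩ := hm.semi c τ
    exact ⟨d, hd⟩
  have hCle : C ≤ hm.rho.range := by
    rintro _ ⟨c, rfl⟩
    simpa using hmem c 1
  have hG : hm.rho.range = ⊤ := by
    rcases le_or_gt 5 l with h5 | h5
    · haveI : Fact l.Prime := ⟨hl⟩
      haveI : Nontrivial (F ≃ₐ[ZMod 2] F) := Finite.one_lt_card_iff_nontrivial.mp (by
        rw [IsGalois.card_aut_eq_finrank, hd]
        exact hl.one_lt)
      obtain ⟨τ, hτ⟩ := _root_.exists_ne (1 : F ≃ₐ[ZMod 2] F)
      refine (LinearTrans.le_normalizer_or_top hd hl h5 mulE_range_comm (fun v w hv hw => ?_) hCle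
        (x := autE τ) (by simpa using hmem 1 τ) (mem_normalizer_of_conj ?_) ?_).resolve_left hnot
      · exact ⟨_, ⟨Units.mk0 (w / v) (div_ne_zero hw hv), rfl⟩, by
          rw [mulE_apply, Units.val_mk0, div_mul_cancel₀ _ hv]⟩
      · rintro _ ⟨c, rfl⟩
        exact ⟨_, (autE_conj_mulE τ c).symm⟩
      · rintro ⟨c, hc'⟩
        refine hτ (AlgEquiv.ext fun t => ?_)
        have h1 : (c : F) = 1 := by simpa using LinearEquiv.congr_fun hc' (1 : F)
        simpa [h1, eq_comm] using LinearEquiv.congr_fun hc' t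
    · have hl3 : l = 3 := by
        have := hl.two_le
        interval_cases l <;> first | rfl | contradiction | (exfalso; norm_num at hl)
      subst hl3
      haveI : Fact (Nat.Prime 7) := ⟨by norm_num⟩
      haveI : Finite (F ≃ₗ[ZMod 2] F) := Finite.of_injective (fun e : F ≃ₗ[ZMod 2] F => (e : F → F)) DFunLike.coe_injective
      have hGL : Nat.card (F ≃ₗ[ZMod 2] F) = 168 := by
        have e1 := (LinearMap.GeneralLinearGroup.generalLinearEquiv (ZMod 2) F).symm.trans
          (Matrix.GeneralLinearGroup.toLin' (R := ZMod 2) (n := Fin 3) (Module.finBasisOfFinrankEq (ZMod 2) F hd)).symm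
        rw [Nat.card_congr e1.toEquiv, Matrix.card_GL_field]
        simp [Fin.prod_univ_three]
      have hC7 : Nat.card C = 7 := by
        rw [hC, ← Nat.card_congr (MonoidHom.ofInjective mulE_injective).toEquiv, Nat.card_units, hm.card]
        norm_num
      have hdiv : Nat.card hm.rho.range ∣ 168 := hGL ▸ Subgroup.card_subgroup_dvd_card _
      have h21 : 21 ∣ Nat.card hm.rho.range := by
        have h1 : Nat.card ((two a b : Subgroup G).subgroupOf (stabilizer G a)) = 21 := by
          rw [Nat.card_congr (Subgroup.subgroupOfEquivOfLe inf_le_left).toEquiv, hm.card_two]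
          norm_num
        have hinj : Function.Injective (hm.rho.comp ((two a b : Subgroup G).subgroupOf (stabilizer G a)).subtype) :=
          (injective_iff_map_eq_one _).mpr fun d hd' => Subtype.ext
            (two_faithful hF hNB hBel hnG hab hc d.2 (invsConj_eq_one.mpr (hm.rho_eq_one.mp hd')))
        rw [← h1, Nat.card_congr (MonoidHom.ofInjective hinj).toEquiv]
        exact Subgroup.card_dvd_of_le (by rintro _ ⟨d, rfl⟩; exact ⟨_, rfl⟩)
      refine Subgroup.eq_top_of_card_eq _ (hGL ▸ ?_)
      by_contra hne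
      refine hnot fun g hg => ?_
      -- the Sylow subgroup of order seven is normal
      set R := hm.rho.range
      have hCp : IsPGroup 7 (C.subgroupOf R) :=
        IsPGroup.of_card (n := 1) (by rw [Nat.card_congr (Subgroup.subgroupOfEquivOfLe hCle).toEquiv, hC7, pow_one])
      obtain ⟨P, hP⟩ := hCp.exists_le_sylow
      have hR : Nat.card R = 21 ∨ Nat.card R = 42 ∨ Nat.card R = 84 := by
        obtain ⟨q, hq⟩ := h21
        have h8 : q ∣ 8 := by
          have := hdiv
          rw [hq, show (168 : ℕ) = 21 * 8 by norm_num] at this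
          exact Nat.dvd_of_mul_dvd_mul_left (by norm_num) this
        have : q ≤ 8 := Nat.le_of_dvd (by norm_num) h8
        interval_cases q <;> omega
      have hC7' : Nat.card (C.subgroupOf R) = 7 := by
        rw [Nat.card_congr (Subgroup.subgroupOfEquivOfLe hCle).toEquiv, hC7]
      have hPcard : Nat.card (P : Subgroup R) ≤ 7 := by
        obtain ⟨k, hk⟩ := IsPGroup.iff_card.mp P.2
        have hdvd := Subgroup.card_subgroup_dvd_card (P : Subgroup R)
        rw [hk] at hdvd ⊢
        have hk2 : k ≤ 1 := by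
          by_contra hk1
          have h49 : 7 ^ 2 ∣ Nat.card R := (pow_dvd_pow 7 (by omega : 2 ≤ k)).trans hdvd
          rcases hR with h | h | h <;> rw [h] at h49 <;> norm_num at h49
        calc 7 ^ k ≤ 7 ^ 1 := Nat.pow_le_pow_right (by norm_num) hk2
          _ = 7 := pow_one 7
      have hPeq : C.subgroupOf R = (P : Subgroup R) := Subgroup.eq_of_le_of_card_ge hP (hC7'.symm ▸ hPcard)
      have hn : Nat.card (Sylow 7 R) = 1 := by
        have hd2 := card_sylow_modEq_one 7 R
        have hidx : Nat.card R = (C.subgroupOf R).index * 7 := by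
          nth_rewrite 1 [← Subgroup.index_mul_card (C.subgroupOf R)]
          rw [hC7']
        have hd1 : Nat.card (Sylow 7 R) ∣ (C.subgroupOf R).index := hPeq.symm ▸ P.card_dvd_index
        unfold Nat.ModEq at hd2
        generalize Nat.card (Sylow 7 R) = n7 at hd1 hd2 ⊢
        generalize (C.subgroupOf R).index = ix at hd1 hidx
        have hle : n7 ≤ 12 := (Nat.le_of_dvd (by rcases hR with h | h | h <;> omega) hd1).trans
          (by rcases hR with h | h | h <;> omega)
        obtain ⟨r, rfl⟩ := hd1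
        interval_cases n7 <;> first | omega | (rcases hR with h | h | h <;> omega)
      haveI := (Nat.card_eq_one_iff_unique.mp hn).1
      have hnorm : (C.subgroupOf R).Normal := hPeq ▸ Sylow.normal_of_subsingleton P
      refine mem_normalizer_of_conj fun c hc' => ?_
      exact hnorm.conj_mem ⟨c, hCle hc'⟩ hc' ⟨g, hg⟩
  exact MonoidHom.range_eq_top.mp hG

end CfsgLib.Bender.OneFix
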