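import Cfsg.Agent.Lib.Bender.FromB1.Comm.Omega

/-!
Commuting involutions at a point: in a counterexample their centraliser meets the two-point stabiliser trivially.
-/

set_option autoImplicit false
set_option linter.unusedSectionVars false
set_option linter.style.haveILetI false

namespace CfsgLib.Bender.OneFix

open MulAction Cfsg CfsgLib.Bender.TwoClosed
open CfsgLib.Bender.B1 (Good FourIn)

universe u

variable {G Ω : Type u} [Group G] [MulAction G Ω] [Finite G] [FaithfulSMul G Ω] (hF : OneFix G Ω)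
  (hNB : NoBad G Ω) (hBel : B1.Below.{u} (Nat.card G)) (hnG : ¬ Good G Ω) {a b : Ω} (hab : b ≠ a)
  (hc : CommAt G a)
include hF hNB hBel hnG hab hc

/-- The centraliser of the involutions at `a` does not cover `G_a` modulo `G_ab`. -/
theorem cz_not_cover : cz (G := G) a ⊔ two a b ≠ stabilizer G a :=
  fun h => hnG (good_of_cz_cover hF hNB hBel hab hc h)

/-- The centraliser of the involutions at `a` meets `G_ab` trivially. -/
theorem cz_inf_two : cz (G := G) a ⊓ two a b = ⊥ := by
  by_contra hne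
  refine cz_not_cover hF hNB hBel hnG hab hc (le_antisymm (sup_le cz_le inf_le_left) fun h hh => ?_)
  obtain ⟨p, hp, hpd⟩ := Nat.exists_prime_and_dvd fun e => hne (Subgroup.card_eq_one.mp e)
  haveI := Fact.mk hp
  obtain ⟨R, -, hR⟩ := exists_maxP (p := p) IsPGroup.of_bot (bot_le : ⊥ ≤ cz (G := G) a ⊓ two a b)
  have hM := piece_cz hF hNB hBel hab hc
  have hRmax := Piece.maxP_of_two hF hNB hBel hab hM hpd hR
  have hRh : MaxP p (cz (G := G) a) (R.map (MulAut.conj h).toMonoidHom) := by
    refine maxP_of_card (hR.isPGroup.map _) ?_ ?_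
    · rintro _ ⟨x, hx, rfl⟩
      exact cz_conj hh (hR.le hx).1
    · rw [Subgroup.card_map_of_injective (MulAut.conj h).injective, hRmax.card]
  obtain ⟨c, hcc, hcR⟩ := hRh.conj hRmax
  have hn : c * h ∈ stabilizer G a := mul_mem (cz_le hcc) hh
  have hnR : ∀ x ∈ R, c * h * x * (c * h)⁻¹ ∈ R := fun x hx => by
    have h' := (hcR (h * x * h⁻¹)).mp ⟨x, hx, rfl⟩
    rwa [show c * (h * x * h⁻¹) * c⁻¹ = c * h * x * (c * h)⁻¹ by group] at h'
  have hnN := mem_normalizer_of_conj hnR
  have hR1 : R ≠ ⊥ := fun e => by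
    have h1 := hR.card
    rw [e, Subgroup.card_bot] at h1
    have h2 := hp.factorization_pos_of_dvd Nat.card_pos.ne' hpd
    exact (Nat.one_lt_pow h2.ne' hp.one_lt).ne h1
  obtain ⟨y, hy, hy1⟩ := (Subgroup.bot_or_exists_ne_one R).resolve_left hR1
  set n := c * h
  have hd : y • n • b = n • b := by
    have h' := (mem_two.mp (hR.le ((Subgroup.mem_normalizer_iff''.mp hnN y).mp hy)).2).2
    rwa [mul_smul, mul_smul, inv_smul_eq_iff] at h'
  have hna : n • a = a := mem_stabilizer_iff.mp hn
  obtain ⟨g, hg, -, hgb⟩ := Piece.exists_move_cent hF hNB hBel hab hM (hR.le hy).1 (hR.le hy).2 hy1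
    (fun e => hab (smul_left_cancel n (e.trans hna.symm))) hd
  have h2 : g⁻¹ * n ∈ two a b := mem_two.mpr
    ⟨by rw [mul_smul, hna, inv_smul_eq_iff, mem_stabilizer_iff.mp (cz_le hg)],
      by rw [mul_smul, ← hgb, inv_smul_smul]⟩
  rw [show h = (c⁻¹ * g) * (g⁻¹ * n) by simp only [n]; group]
  exact Subgroup.mul_mem_sup (mul_mem (inv_mem hcc) hg) h2

/-- An element of `G_ab` acting trivially on the involutions at `a` is trivial. -/
theorem two_faithful {g : stabilizer G a} (hg : (g : G) ∈ two a b) (h : invsConj a g = 1) : g = 1 :=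
  Subtype.ext (Subgroup.mem_bot.mp ((cz_inf_two hF hNB hBel hnG hab hc).le
    (Subgroup.mem_inf.mpr ⟨invsConj_eq_one.mp h, hg⟩)))

end CfsgLib.Bender.OneFix
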