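import Cfsg.Agent.Lib.Bender.FromB1.Comm.Full
import Mathlib.LinearAlgebra.Dimension.Constructions

/-!
Commuting involutions and an element of rank one of order at least five: the full linear group on the
involutions at `a` is impossible, as no involution of `G_a` normalises a subgroup of odd order without fixed
involutions.
-/

set_option autoImplicit false
set_option linter.unusedSectionVars false
set_option linter.style.haveILetI false
set_option linter.overlappingInstances false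

namespace CfsgLib.Bender.OneFix

open MulAction Cfsg CfsgLib.Bender.TwoClosed
open CfsgLib.Bender.B1 (Good FourIn)

universe u

/-- A `p`-element of an overgroup maps onto a prescribed image inside a given maximal `p`-subgroup. -/
theorem mem_map_maxP {A B : Type*} [Group A] [Finite A] [Group B] (f : A →* B) {p : ℕ} [Fact p.Prime]
    {K P : Subgroup A} (hP : MaxP p K P) {h : A} (hh : h ∈ K) (hcomm : ∀ c ∈ K, f c * f h = f h * f c)
    (hpow : f h ^ p = 1) : f h ∈ P.map f := by
  obtain ⟨i, r, hr, ho⟩ := Nat.exists_eq_pow_mul_and_not_dvd (orderOf_pos h).ne' p (Fact.out : p.Prime).ne_one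
  have hh3 : IsPGroup p (Subgroup.zpowers (h ^ r)) := by
    obtain ⟨j, -, hj⟩ := (Nat.dvd_prime_pow (Fact.out : p.Prime)).mp (orderOf_dvd_of_pow_eq_one
      (show (h ^ r) ^ p ^ i = 1 by rw [← pow_mul, mul_comm, ← ho, pow_orderOf_eq_one]))
    exact IsPGroup.of_card (n := j) (by rw [Nat.card_zpowers, hj])
  obtain ⟨Y, hY1, hY⟩ := exists_maxP hh3 (Subgroup.zpowers_le.mpr (pow_mem hh r) : _ ≤ K)
  obtain ⟨c, hc, hcY⟩ := hY.conj hP
  have h1 : f (h ^ r) ∈ P.map f := by
    refine ⟨_, (hcY _).mp (hY1 (Subgroup.mem_zpowers _)), ?_⟩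
    have hcr : Commute (f c) (f h ^ r) := (show Commute (f c) (f h) from hcomm c hc).pow_right r
    rw [map_mul, map_mul, map_inv, map_pow, hcr.eq, mul_inv_cancel_right]
  obtain ⟨s, hs⟩ : ∃ s : ℕ, f h ^ (r * s) = f h := by
    have hd : orderOf (f h) ∣ p := orderOf_dvd_of_pow_eq_one hpow
    have hcop : r.Coprime (orderOf (f h)) :=
      ((Fact.out : p.Prime).coprime_iff_not_dvd.mpr hr).symm.coprime_dvd_right hd
    obtain ⟨s, hs⟩ := exists_pow_eq_self_of_coprime hcop
    exact ⟨s, by rw [pow_mul]; exact hs⟩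
  rw [← hs, pow_mul, ← map_pow]
  exact pow_mem h1 s

variable {G Ω : Type u} [Group G] [MulAction G Ω] [Finite G] [FaithfulSMul G Ω] (hF : OneFix G Ω)
  {a b : Ω} (hc : CommAt G a) {l : ℕ} {F : Type} [Field F] [Finite F]
  [Algebra (ZMod 2) F] (hm : Model (G := G) a b l F) (hsurj : Function.Surjective hm.rho)
include hF hc hm hsurj

/-- No involution of the linear group twists an odd abelian subgroup without fixed vectors. -/
theorem no_twist {k g τ : F ≃ₗ[ZMod 2] F} (hk : k ^ 3 = 1) (hk1 : k ≠ 1) (hg : g ^ 7 = 1)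
    (hkg : k * g = g * k) (hτk : τ * k * τ⁻¹ = k⁻¹) (hτg : τ * g * τ⁻¹ = g)
    (hfix : ∀ v : F, k v = v → g v = v → v = 0) : False := by
  haveI : Fact (Nat.Prime 3) := ⟨Nat.prime_three⟩
  haveI : Fact (Nat.Prime 7) := ⟨by norm_num⟩
  set f := hm.rho with hf
  -- the maximal 3-subgroup over `k`
  set K : Subgroup (stabilizer G a) := (Subgroup.zpowers k).comap f with hK
  obtain ⟨P, -, hP⟩ := exists_maxP (p := 3) IsPGroup.of_bot (bot_le : ⊥ ≤ K)
  have hKab : ∀ c ∈ K, f c * k = k * f c := fun c hc' => by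
    obtain ⟨i, hi⟩ := Subgroup.mem_zpowers_iff.mp (Subgroup.mem_comap.mp hc')
    rw [← hi]
    exact ((Commute.refl k).zpow_left i).eq
  obtain ⟨hk', hkeq⟩ := hsurj k
  have hkP : k ∈ P.map f := by
    rw [← hkeq]
    refine mem_map_maxP f hP (Subgroup.mem_comap.mpr (hkeq ▸ Subgroup.mem_zpowers k)) (fun c hc' => ?_)
      (by rw [hkeq, hk])
    rw [hkeq]
    exact hKab c hc'
  have hnormP : ∀ h : stabilizer G a, (∀ w ∈ Subgroup.zpowers k, f h * w * (f h)⁻¹ ∈ Subgroup.zpowers k) →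
      ∃ c ∈ K, c * h ∈ Subgroup.normalizer (P : Set (stabilizer G a)) := by
    intro h hh
    have hQ : MaxP 3 K (P.map (MulAut.conj h).toMonoidHom) := by
      refine maxP_of_card (hP.isPGroup.map _) ?_ ?_
      · rintro _ ⟨e, he, rfl⟩
        refine Subgroup.mem_comap.mpr ?_
        show f (h * e * h⁻¹) ∈ Subgroup.zpowers k
        rw [map_mul, map_mul, map_inv]
        exact hh _ (hP.le he)
      · rw [Subgroup.card_map_of_injective (MulAut.conj h).injective, hP.card]
    obtain ⟨c, hc', hcP⟩ := hQ.conj hP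
    refine ⟨c, hc', mem_normalizer_of_conj fun e he => ?_⟩
    have h' := (hcP (h * e * h⁻¹)).mp ⟨e, he, rfl⟩
    rwa [show c * (h * e * h⁻¹) * c⁻¹ = c * h * e * (c * h)⁻¹ by group] at h'
  -- the subgroup over `k` and `g` normalising `P`
  set KG : Subgroup (F ≃ₗ[ZMod 2] F) := Subgroup.closure {k, g} with hKG
  have hkKG : k ∈ KG := Subgroup.subset_closure (Set.mem_insert k {g})
  have hgKG : g ∈ KG := Subgroup.subset_closure (Set.mem_insert_of_mem k (Set.mem_singleton g))
  haveI hKGab : IsMulCommutative KG := Subgroup.isMulCommutative_closure fun p hp q hq => by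
    rcases hp with rfl | rfl <;> rcases hq with rfl | rfl <;> first | rfl | exact hkg | exact hkg.symm
  have hKGcomm : ∀ p ∈ KG, ∀ q ∈ KG, p * q = q * p := fun p hp q hq =>
    congrArg Subtype.val (IsMulCommutative.is_comm.comm (⟨p, hp⟩ : KG) ⟨q, hq⟩)
  set T : Subgroup (stabilizer G a) := Subgroup.normalizer (P : Set (stabilizer G a)) ⊓ KG.comap f with hT
  obtain ⟨R, -, hR⟩ := exists_maxP (p := 7) IsPGroup.of_bot (bot_le : ⊥ ≤ T)
  have hPT : P ≤ T := le_inf Subgroup.le_normalizer fun e he =>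
    Subgroup.mem_comap.mpr (Subgroup.zpowers_le.mpr hkKG (hP.le he))
  have hzk : ∀ p : F ≃ₗ[ZMod 2] F, (∀ j : ℤ, ∃ j' : ℤ, p * k ^ j * p⁻¹ = k ^ j') →
      ∀ w ∈ Subgroup.zpowers k, p * w * p⁻¹ ∈ Subgroup.zpowers k := fun p hp w hw => by
    obtain ⟨j, rfl⟩ := Subgroup.mem_zpowers_iff.mp hw
    obtain ⟨j', hj'⟩ := hp j
    exact Subgroup.mem_zpowers_iff.mpr ⟨j', hj'.symm⟩
  obtain ⟨g₀, hg₀⟩ := hsurj g
  obtain ⟨cg, hcg, hgn⟩ := hnormP g₀ (by
    rw [hg₀]
    exact hzk g fun j => ⟨j, by rw [(show Commute g k from hkg.symm).zpow_right j |>.eq, mul_inv_cancel_right]⟩)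
  have hgR : g ∈ R.map f := by
    obtain ⟨i, hi⟩ := Subgroup.mem_zpowers_iff.mp (Subgroup.mem_comap.mp hcg)
    obtain ⟨p, hp, hpk⟩ := hkP
    have hel : p ^ (-i) * (cg * g₀) ∈ T := Subgroup.mem_inf.mpr
      ⟨mul_mem (zpow_mem ((Subgroup.mem_inf.mp (hPT hp)).1) _) hgn, Subgroup.mem_comap.mpr (by
        rw [map_mul, map_zpow, map_mul, hpk, hg₀, ← hi, ← mul_assoc, ← zpow_add, neg_add_cancel, zpow_zero, one_mul]
        exact hgKG)⟩
    have himg : f (p ^ (-i) * (cg * g₀)) = g := by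
      rw [map_mul, map_zpow, map_mul, hpk, hg₀, ← hi, ← mul_assoc, ← zpow_add, neg_add_cancel, zpow_zero, one_mul]
    rw [← himg]
    refine mem_map_maxP f hR hel (fun c hc' => ?_) (by rw [himg, hg])
    rw [himg]
    exact hKGcomm _ (Subgroup.mem_comap.mp (Subgroup.mem_inf.mp hc').2) _ hgKG
  obtain ⟨t₀, ht₀⟩ := hsurj τ
  obtain ⟨ct, hct, htn⟩ := hnormP t₀ (by
    rw [ht₀]
    exact hzk τ fun j => ⟨-j, by rw [← conj_zpow, hτk, inv_zpow, ← zpow_neg]⟩)
  have hctKG : f ct ∈ KG := Subgroup.zpowers_le.mpr hkKG (Subgroup.mem_comap.mp hct)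
  -- normalise `R` as well
  have hconjKG : ∀ e ∈ KG, f (ct * t₀) * e * (f (ct * t₀))⁻¹ ∈ KG := by
    intro e he
    have hle : KG ≤ KG.comap (MulAut.conj τ).toMonoidHom := by
      rw [hKG, Subgroup.closure_le]
      intro s hs
      show τ * s * τ⁻¹ ∈ Subgroup.closure {k, g}
      rcases hs with hs | hs
      · rw [hs, hτk]
        exact inv_mem hkKG
      · rw [Set.mem_singleton_iff.mp hs, hτg]
        exact hgKG
    rw [map_mul, ht₀, show f ct * τ * e * (f ct * τ)⁻¹ = f ct * (τ * e * τ⁻¹) * (f ct)⁻¹ by group]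
    exact mul_mem (mul_mem hctKG (hle he)) (inv_mem hctKG)
  have hRconj : MaxP 7 T (R.map (MulAut.conj (ct * t₀)).toMonoidHom) := by
    refine maxP_of_card (hR.isPGroup.map _) ?_ ?_
    · rintro _ ⟨e, he, rfl⟩
      obtain ⟨he1, he2⟩ := Subgroup.mem_inf.mp (hR.le he)
      refine Subgroup.mem_inf.mpr ⟨mul_mem (mul_mem htn he1) (inv_mem htn), Subgroup.mem_comap.mpr ?_⟩
      show f (ct * t₀ * e * (ct * t₀)⁻¹) ∈ KG
      rw [map_mul, map_mul _ (ct * t₀) e, map_inv]
      exact hconjKG _ he2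
    · rw [Subgroup.card_map_of_injective (MulAut.conj (ct * t₀)).injective, hR.card]
  obtain ⟨c, hcT, hcR⟩ := hRconj.conj hR
  obtain ⟨hcn, hcKG⟩ := Subgroup.mem_inf.mp hcT
  set h := c * (ct * t₀) with hh
  have hhP : h ∈ Subgroup.normalizer (P : Set (stabilizer G a)) := mul_mem hcn htn
  have hhR : h ∈ Subgroup.normalizer (R : Set (stabilizer G a)) := mem_normalizer_of_conj fun e he => by
    have h' := (hcR (ct * t₀ * e * (ct * t₀)⁻¹)).mp ⟨e, he, rfl⟩
    rwa [show c * (ct * t₀ * e * (ct * t₀)⁻¹) * c⁻¹ = h * e * h⁻¹ by rw [hh]; group] at h'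
  -- `h` inverts `k`, so a power of it is an involution
  have hwk : f h * k * (f h)⁻¹ = k⁻¹ := by
    have h1 : ∀ e ∈ KG, e * k⁻¹ * e⁻¹ = k⁻¹ := fun e he => by
      rw [hKGcomm e he _ (inv_mem hkKG), mul_inv_cancel_right]
    rw [hh, map_mul, map_mul, ht₀,
      show f c * (f ct * τ) * k * (f c * (f ct * τ))⁻¹ = (f c * f ct) * (τ * k * τ⁻¹) * (f c * f ct)⁻¹ by group,
      hτk]
    exact h1 _ (mul_mem (Subgroup.mem_comap.mp hcKG) hctKG)
  have heven : Even (orderOf h) := by
    refine Nat.not_odd_iff_even.mp fun hodd => hk1 ?_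
    have hodd' : Odd (orderOf (f h)) := hodd.of_dvd_nat (orderOf_map_dvd f h)
    obtain ⟨n, hn⟩ := CfsgLib.Involutions.exists_sqrt hodd'
    have hsq : Commute (f h * f h) k := mul_inv_eq_iff_eq_mul.mp (by
      calc f h * f h * k * (f h * f h)⁻¹ = f h * (f h * k * (f h)⁻¹) * (f h)⁻¹ := by group
        _ = (f h * k * (f h)⁻¹)⁻¹ := by
          conv_lhs => rw [hwk]
          group
        _ = k := by rw [hwk, inv_inv])
    have hcom : Commute (f h) k := by
      have h' := hsq.pow_left n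
      rwa [(Commute.refl (f h)).mul_pow, hn] at h'
    rw [hcom.eq, mul_inv_cancel_right] at hwk
    have h2 : k ^ 2 = 1 := by rw [pow_two]; nth_rewrite 2 [hwk]; exact mul_inv_cancel k
    calc k = k ^ 3 := by rw [show (3 : ℕ) = 2 + 1 from rfl, pow_succ, h2, one_mul]
      _ = 1 := hk
  obtain ⟨m, hm'⟩ := heven.two_dvd
  set i := h ^ m with hi
  have hio : orderOf i = 2 := by
    rw [hi, orderOf_pow_of_dvd (fun e => (orderOf_pos h).ne' (by rw [hm', e, mul_zero])) (hm' ▸ dvd_mul_left m 2),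
      hm', Nat.mul_div_cancel _ (Nat.pos_of_ne_zero fun e => (orderOf_pos h).ne' (by rw [hm', e, mul_zero]))]
  obtain ⟨hi2, hi1⟩ := CfsgLib.Involutions.orderOf_eq_two_iff'.mp hio
  have hiI : IsInv (i : G) := ⟨fun e => hi1 (Subtype.ext e), congrArg Subtype.val hi2⟩
  have hiV : (i : G) ∈ invs (G := G) a := inv_mem_invs hiI (mem_stabilizer_iff.mp i.2)
  -- it centralises both subgroups
  have hcent : ∀ p, p.Prime → p ≠ 2 → ∀ S : Subgroup (stabilizer G a), IsPGroup p S →
      i ∈ Subgroup.normalizer (S : Set (stabilizer G a)) → ∀ e ∈ S,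
      f e (hm.toField (Additive.ofMul (⟨_, hiV⟩ : invs (G := G) a))) =
        hm.toField (Additive.ofMul (⟨_, hiV⟩ : invs (G := G) a)) := by
    intro p hp hp2 S hS hiS e he
    haveI := Fact.mk hp
    refine (hm.rho_fix (g := e) ⟨_, hiV⟩).mpr ?_
    set w := i * e * i⁻¹ * e⁻¹ with hw
    have hwS : w ∈ S := mul_mem (conj_mem_of_normalizer hiS he) (inv_mem he)
    have hwV : (w : G) ∈ invs (G := G) a := by
      have h1 := conj_mem_of_normalizer (stab_le_normalizer_invs e.2) (inv_mem hiV)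
      have h2 := mul_mem hiV h1
      simpa [hw, mul_assoc] using h2
    have h2 : w ^ 2 = 1 := Subtype.ext (by rw [pow_two]; exact invs_sq hc hwV)
    have hw1 := eq_one_of_two_odd h2 (odd_orderOf_of_pGroup hp2 hS hwS)
    rw [hw, mul_inv_eq_one, mul_inv_eq_iff_eq_mul] at hw1
    exact (congrArg Subtype.val hw1).symm
  obtain ⟨p, hp, hpk⟩ := hkP
  obtain ⟨r, hr, hrg⟩ := hgR
  have hfp := hcent 3 Nat.prime_three (by norm_num) P hP.isPGroup (pow_mem hhP m) p hp
  have hfr := hcent 7 (by norm_num) (by norm_num) R hR.isPGroup (pow_mem hhR m) r hr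
  rw [hpk] at hfp
  rw [hrg] at hfr
  exact hiI.1 (congrArg Subtype.val (Additive.ofMul.injective ((AddEquiv.map_eq_zero_iff hm.toField).mp
    (hfix _ hfp hfr)) : (⟨_, hiV⟩ : invs (G := G) a) = 1))

/-- The full linear group of degree `2 j + 3` with `j ≥ 1` does not occur. -/
theorem not_full {j : ℕ} (hj : 1 ≤ j) (hl : l = 2 * j + 3) : False := by
  haveI : FiniteDimensional (ZMod 2) F := Module.Finite.of_finite
  let W := (Fin j → ZMod 2 × ZMod 2) × (ZMod 2 × ZMod 2 × ZMod 2)
  have hd : Module.finrank (ZMod 2) F = Module.finrank (ZMod 2) W := by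
    have h := Module.natCard_eq_pow_finrank (K := ZMod 2) (V := F)
    rw [hm.card, Nat.card_zmod] at h
    rw [← Nat.pow_right_injective le_rfl h, hl]
    simp [W, Module.finrank_prod, Module.finrank_pi_fintype]
    omega
  let e : F ≃ₗ[ZMod 2] W := LinearEquiv.ofFinrankEq F W hd
  let conj : (W ≃ₗ[ZMod 2] W) →* (F ≃ₗ[ZMod 2] F) :=
    { toFun := fun p => e.trans (p.trans e.symm)
      map_one' := LinearEquiv.ext fun v => e.symm_apply_apply v
      map_mul' := fun p q => LinearEquiv.ext fun v => by simp }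
  have hconj : ∀ (p : W ≃ₗ[ZMod 2] W) (v : F), conj p v = e.symm (p (e v)) := fun _ _ => rfl
  let k0 : (ZMod 2 × ZMod 2) ≃ₗ[ZMod 2] ZMod 2 × ZMod 2 :=
    { toFun := fun v => (v.2, v.1 + v.2)
      invFun := fun v => (v.1 + v.2, v.1)
      map_add' := by decide
      map_smul' := by decide
      left_inv := fun v => by revert v; decide
      right_inv := fun v => by revert v; decide }
  let t0 : (ZMod 2 × ZMod 2) ≃ₗ[ZMod 2] ZMod 2 × ZMod 2 := LinearEquiv.prodComm _ _ _
  let g0 : (ZMod 2 × ZMod 2 × ZMod 2) ≃ₗ[ZMod 2] ZMod 2 × ZMod 2 × ZMod 2 :=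
    { toFun := fun v => (v.2.1, v.2.2, v.1 + v.2.1)
      invFun := fun v => (v.2.2 + v.1, v.1, v.2.1)
      map_add' := by decide
      map_smul' := by decide
      left_inv := fun v => by revert v; decide
      right_inv := fun v => by revert v; decide }
  let K : W ≃ₗ[ZMod 2] W := (LinearEquiv.piCongrRight fun _ : Fin j => k0).prodCongr (LinearEquiv.refl _ _)
  let T : W ≃ₗ[ZMod 2] W := (LinearEquiv.piCongrRight fun _ : Fin j => t0).prodCongr (LinearEquiv.refl _ _)
  let Gg : W ≃ₗ[ZMod 2] W := (LinearEquiv.refl _ _).prodCongr g0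
  have hK3 : K ^ 3 = 1 := LinearEquiv.ext fun v => Prod.ext (funext fun i => by
    show k0 (k0 (k0 (v.1 i))) = v.1 i
    generalize v.1 i = w
    revert w; decide) rfl
  have hG7 : Gg ^ 7 = 1 := LinearEquiv.ext fun v => Prod.ext rfl (by
    show g0 (g0 (g0 (g0 (g0 (g0 (g0 v.2)))))) = v.2
    generalize v.2 = w
    revert w; decide)
  have hKG : K * Gg = Gg * K := LinearEquiv.ext fun v => rfl
  have hTK : T * K = K⁻¹ * T := LinearEquiv.ext fun v => Prod.ext (funext fun i => by
    show t0 (k0 (v.1 i)) = k0.symm (t0 (v.1 i))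
    generalize v.1 i = w
    revert w; decide) rfl
  have hTG : T * Gg = Gg * T := LinearEquiv.ext fun v => rfl
  have hK1 : K ≠ 1 := fun h => by
    have h' := congrArg (fun p : W ≃ₗ[ZMod 2] W => (p (fun _ => (1, 0), 0)).1 ⟨0, hj⟩) h
    exact absurd (show k0 (1, 0) = (1, 0) from h') (by decide)
  refine no_twist hF hc hm hsurj (k := conj K) (g := conj Gg) (τ := conj T) (by rw [← map_pow, hK3, map_one])
    (fun h => hK1 (LinearEquiv.ext fun w => ?_)) (by rw [← map_pow, hG7, map_one]) (by rw [← map_mul, hKG, map_mul])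
    (by rw [← map_inv conj K, ← map_inv, ← map_mul, ← map_mul, hTK, mul_inv_cancel_right])
    (by rw [← map_inv, ← map_mul, ← map_mul, hTG, mul_inv_cancel_right]) fun v h1 h2 => ?_
  · have h' := LinearEquiv.congr_fun h (e.symm w)
    rw [hconj, e.apply_symm_apply] at h'
    exact e.symm.injective h'
  · rw [hconj] at h1 h2
    have e1 : K (e v) = e v := e.symm.injective (h1.trans (e.symm_apply_apply v).symm)
    have e2 : Gg (e v) = e v := e.symm.injective (h2.trans (e.symm_apply_apply v).symm)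
    refine e.injective ((Prod.ext (funext fun i => ?_) ?_).trans (map_zero e).symm)
    · have h3 : k0 ((e v).1 i) = (e v).1 i := congrArg (fun w : W => w.1 i) e1
      show (e v).1 i = (0, 0)
      revert h3
      generalize (e v).1 i = w
      revert w; decide
    · have h3 : g0 (e v).2 = (e v).2 := congrArg Prod.snd e2
      show (e v).2 = (0, 0, 0)
      revert h3
      generalize (e v).2 = w
      revert w; decide

end CfsgLib.Bender.OneFix
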