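import Cfsg.Agent.Lib.CharTheory.Induced
import Cfsg.Agent.Lib.CharTheory.Irr
import Mathlib.LinearAlgebra.Matrix.GeneralLinearGroup.Defs
import Mathlib.Algebra.Field.ZMod

/-!
A virtual character of norm three of the linear group of degree three over the field of two elements: induce
`1 - λ` from the Sylow two-subgroup, `λ` linear. It vanishes on elements of odd order.
-/

set_option autoImplicit false
set_option linter.unusedSectionVars false

namespace CfsgLib.Bender.LinearThree

open Cfsg CfsgLib.CharTheory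
open scoped ComplexConjugate

/-- The linear group of degree three over two elements. -/
abbrev L3 := Matrix.GeneralLinearGroup (Fin 3) (ZMod 2)

/-- Upper unitriangular. -/
def Uni (M : Matrix (Fin 3) (Fin 3) (ZMod 2)) : Prop :=
  M 0 0 = 1 ∧ M 1 1 = 1 ∧ M 2 2 = 1 ∧ M 1 0 = 0 ∧ M 2 0 = 0 ∧ M 2 1 = 0

/-- A unitriangular matrix by its entries. -/
def uni (t : ZMod 2 × ZMod 2 × ZMod 2) : Matrix (Fin 3) (Fin 3) (ZMod 2) :=
  !![1, t.1, t.2.1; 0, 1, t.2.2; 0, 0, 1]

theorem Uni.eq {M : Matrix (Fin 3) (Fin 3) (ZMod 2)} (h : Uni M) : M = uni (M 0 1, M 0 2, M 1 2) := by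
  obtain ⟨h1, h2, h3, h4, h5, h6⟩ := h
  ext i j
  fin_cases i <;> fin_cases j <;> simp [uni, *]

theorem uni_uni (t : ZMod 2 × ZMod 2 × ZMod 2) : Uni (uni t) := by
  simp [Uni, uni]

theorem uni_pow_four : ∀ t : ZMod 2 × ZMod 2 × ZMod 2, uni t * uni t * (uni t * uni t) = 1 := by
  decide +kernel

theorem Uni.mul {M N : Matrix (Fin 3) (Fin 3) (ZMod 2)} (hM : Uni M) (hN : Uni N) : Uni (M * N) := by
  obtain ⟨a1, a2, a3, a4, a5, a6⟩ := hM
  obtain ⟨b1, b2, b3, b4, b5, b6⟩ := hN
  simp [Uni, Matrix.mul_apply, Fin.sum_univ_three, *]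

theorem Uni.pow_four {g : L3} (h : Uni g.1) : g ^ 4 = 1 := Units.ext (by
  rw [show (4 : ℕ) = 2 * 2 from rfl, pow_mul, pow_two, pow_two]
  push_cast
  rw [h.eq]
  exact uni_pow_four _)

/-- The upper unitriangular group. -/
def unitri : Subgroup L3 where
  carrier := {g | Uni g.1}
  one_mem' := by simp [Uni]
  mul_mem' := fun hx hy => Uni.mul hx hy
  inv_mem' := fun {g} hg => by
    have h4 := Uni.pow_four hg
    rw [show (4 : ℕ) = 3 + 1 from rfl, pow_succ] at h4
    rw [← eq_inv_of_mul_eq_one_left h4]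
    show Uni (g ^ 3).1
    rw [show g ^ 3 = g * g * g by rw [pow_succ, pow_two]]
    exact (hg.mul hg).mul hg

instance (g : L3) : Decidable (g ∈ unitri) :=
  inferInstanceAs (Decidable (_ ∧ _ ∧ _ ∧ _ ∧ _ ∧ _))

/-- The group element with given entries. -/
def uniElt (t : ZMod 2 × ZMod 2 × ZMod 2) : L3 :=
  ⟨uni t, uni t * (uni t * uni t), by
    rw [← mul_assoc]
    exact uni_pow_four t, by
    rw [mul_assoc (uni t), mul_assoc (uni t), ← mul_assoc (uni t) (uni t)]
    exact uni_pow_four t⟩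

/-- Entries of a unitriangular element. -/
def entries : unitri ≃ ZMod 2 × ZMod 2 × ZMod 2 where
  toFun u := (u.1.1 0 1, u.1.1 0 2, u.1.1 1 2)
  invFun t := ⟨uniElt t, uni_uni t⟩
  left_inv u := Subtype.ext (Units.ext u.2.eq.symm)
  right_inv t := by simp [uniElt, uni]

/-- The linear character. -/
noncomputable def lam : unitri →* ℂˣ where
  toFun u := if u.1.1 0 1 = 0 then 1 else -1
  map_one' := by simp
  map_mul' u v := by
    obtain ⟨h1, h2, h3, h4, h5, h6⟩ := v.2
    obtain ⟨g1, -⟩ := u.2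
    have he : ((u * v : unitri) : L3).1 0 1 = u.1.1 0 1 + v.1.1 0 1 := by
      show (u.1.1 * v.1.1) 0 1 = _
      simp [Matrix.mul_apply, Fin.sum_univ_three, *, add_comm]
    rw [he]
    have h01 : ∀ e : ZMod 2, e = 0 ∨ e = 1 := by decide
    rcases h01 (u.1.1 0 1) with hu | hu <;> rcases h01 (v.1.1 0 1) with hv | hv <;>
      simp [hu, hv, show (1 : ZMod 2) + 1 = 0 from by decide]

/-- `1 - λ`. -/
noncomputable def theta (u : unitri) : ℂ := 1 - (lam u : ℂ)

theorem theta_eq (u : unitri) : theta u = if u.1.1 0 1 = 0 then 0 else 2 := by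
  unfold theta lam
  by_cases h : u.1.1 0 1 = 0
  · simp [h]
  · simp [h]
    norm_num

theorem theta_one : theta 1 = 0 := by simp [theta]

noncomputable local instance : Fintype L3 := Fintype.ofFinite _
noncomputable local instance : Fintype unitri := Fintype.ofFinite _

/-- The exceptional virtual character. -/
noncomputable def phi : L3 → ℂ := indFun unitri theta

theorem phi_gen : IsGeneralizedCharacter L3 phi :=
  isGenChar_indFun unitri ⟨fun _ => (1 : ℂ), fun u => (lam u : ℂ), isCharacter_one,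
    isCharacter_of_irr (isIrrCharacter_linear lam), rfl⟩

theorem phi_class : IsClassFunction L3 phi := indFun_isClassFunction _ _

/-- It vanishes on elements of odd order. -/
theorem phi_odd {g : L3} (hg : Odd (orderOf g)) : phi g = 0 := by
  refine mul_eq_zero_of_right _ (Finset.sum_eq_zero fun x _ => ?_)
  by_cases hm : x⁻¹ * g * x ∈ unitri
  · have he : extendByZero unitri theta (x⁻¹ * g * x) = theta ⟨_, hm⟩ :=
      Subtype.val_injective.extend_apply theta 0 (⟨_, hm⟩ : unitri)
    have h4 : g ^ 4 = 1 := by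
      have h := Uni.pow_four hm
      have hc := conj_pow (i := 4) (a := x⁻¹) (b := g)
      rw [inv_inv, h] at hc
      exact (conj_eq_one_iff (a := x⁻¹) (b := g ^ 4)).mp (by rw [inv_inv]; exact hc.symm)
    have h1 : g = 1 := by
      refine orderOf_eq_one_iff.mp (Nat.Coprime.eq_one_of_dvd ?_ (orderOf_dvd_of_pow_eq_one h4))
      exact (Nat.coprime_two_right.mpr hg).mul_right (Nat.coprime_two_right.mpr hg)
    rw [he, show (⟨_, hm⟩ : unitri) = 1 from Subtype.ext (by simp [h1]), theta_one]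
  · exact Function.extend_apply' _ _ _ fun ⟨y, hy⟩ => hm (hy ▸ y.2)

theorem phi_one : phi 1 = 0 := phi_odd (by simp)

theorem theta_sum : ∑ u : unitri, theta u = 8 := by
  rw [← entries.symm.sum_comp]
  simp only [theta_eq, Fintype.sum_prod_type, entries, Equiv.coe_fn_symm_mk, uniElt, uni]
  simp [Fin.sum_univ_two, show (Finset.univ : Finset (ZMod 2)) = {0, 1} from by decide]
  norm_num

theorem card_unitri : Nat.card unitri = 8 := by
  rw [Nat.card_congr entries]
  simp

theorem phi_principal : classInner phi (fun _ => (1 : ℂ)) = 1 := by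
  rw [phi, frobenius_reciprocity unitri theta (fun _ _ => rfl)]
  simp only [classInner, map_one, mul_one, theta_sum, card_unitri]
  norm_num

/-- A matrix by its rows. -/
def mat (t : (ZMod 2 × ZMod 2 × ZMod 2) × (ZMod 2 × ZMod 2 × ZMod 2) × (ZMod 2 × ZMod 2 × ZMod 2)) :
    Matrix (Fin 3) (Fin 3) (ZMod 2) :=
  !![t.1.1, t.1.2.1, t.1.2.2; t.2.1.1, t.2.1.2.1, t.2.1.2.2; t.2.2.1, t.2.2.2.1, t.2.2.2.2]

/-- Conjugations between the four unitriangular matrices with `λ = -1`. -/
def Carries (p : ZMod 2 × ZMod 2) (M : Matrix (Fin 3) (Fin 3) (ZMod 2)) : Prop :=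
  M 0 0 * M 1 1 * M 2 2 + M 0 0 * M 1 2 * M 2 1 + M 0 1 * M 1 0 * M 2 2 + M 0 1 * M 1 2 * M 2 0 +
      M 0 2 * M 1 0 * M 2 1 + M 0 2 * M 1 1 * M 2 0 ≠ 0 ∧
    ∃ q : ZMod 2 × ZMod 2, uni (1, p.1, p.2) * M = M * uni (1, q.1, q.2)

instance (p : ZMod 2 × ZMod 2) (M : Matrix (Fin 3) (Fin 3) (ZMod 2)) : Decidable (Carries p M) := by
  unfold Carries; infer_instance

theorem carries_count : ∑ p : ZMod 2 × ZMod 2,
    (Finset.univ.filter fun t => Carries p (mat t)).card ≤ 48 := by
  decide +kernel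

theorem carries_card (p : ZMod 2 × ZMod 2) :
    (Finset.univ.filter fun x : L3 => x⁻¹ * uniElt (1, p.1, p.2) * x ∈ unitri ∧
      (x⁻¹ * uniElt (1, p.1, p.2) * x).1 0 1 = 1).card ≤
      (Finset.univ.filter fun t => Carries p (mat t)).card := by
  refine Finset.card_le_card_of_injOn
    (fun x => ((x.1 0 0, x.1 0 1, x.1 0 2), (x.1 1 0, x.1 1 1, x.1 1 2), (x.1 2 0, x.1 2 1, x.1 2 2))) ?_ ?_
  · intro x hx
    obtain ⟨-, hx1, hx2⟩ := Finset.mem_filter.mp hx
    refine Finset.mem_filter.mpr ⟨Finset.mem_univ _, ?_⟩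
    have hmat : mat ((x.1 0 0, x.1 0 1, x.1 0 2), (x.1 1 0, x.1 1 1, x.1 1 2), (x.1 2 0, x.1 2 1, x.1 2 2)) = x.1 := by
      ext i j
      fin_cases i <;> fin_cases j <;> rfl
    rw [hmat]
    refine ⟨?_, ((x⁻¹ * uniElt (1, p.1, p.2) * x).1 0 2, (x⁻¹ * uniElt (1, p.1, p.2) * x).1 1 2), ?_⟩
    · have hdet : Matrix.det x.1 ≠ 0 := ((Matrix.isUnit_iff_isUnit_det _).mp x.isUnit).ne_zero
      rw [Matrix.det_fin_three] at hdet
      simpa only [sub_eq_add_neg, ZMod.neg_eq_self_mod_two] using hdet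
    · have he := Uni.eq (show Uni (x⁻¹ * uniElt (1, p.1, p.2) * x).1 from hx1)
      rw [hx2] at he
      rw [← he]
      show (uniElt (1, p.1, p.2) * x).1 = (x * (x⁻¹ * uniElt (1, p.1, p.2) * x)).1
      rw [← mul_assoc, ← mul_assoc, mul_inv_cancel, one_mul]
  · intro x _ y _ h
    simp only [Prod.mk.injEq] at h
    refine Units.ext (Matrix.ext fun i j => ?_)
    fin_cases i <;> fin_cases j <;> simp [h]

theorem extend_eq (g : L3) :
    extendByZero unitri theta g = if g ∈ unitri ∧ g.1 0 1 = 1 then 2 else 0 := by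
  classical
  by_cases hg : g ∈ unitri
  · have he : extendByZero unitri theta g = theta ⟨g, hg⟩ :=
      Subtype.val_injective.extend_apply theta 0 (⟨g, hg⟩ : unitri)
    have h01 : ∀ e : ZMod 2, e = 0 ∨ e = 1 := by decide
    rw [he, theta_eq]
    rcases h01 (g.1 0 1) with h | h <;> simp [h, hg]
  · rw [if_neg fun h => hg h.1]
    exact Function.extend_apply' _ _ _ fun ⟨y, hy⟩ => hg (hy ▸ y.2)

theorem phi_norm : (classInner phi phi).re ≤ 3 := by
  classical
  set N : ℕ := ∑ p : ZMod 2 × ZMod 2, (Finset.univ.filter fun x : L3 => x⁻¹ * uniElt (1, p.1, p.2) * x ∈ unitri ∧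
    (x⁻¹ * uniElt (1, p.1, p.2) * x).1 0 1 = 1).card with hN
  have hN48 : N ≤ 48 := (Finset.sum_le_sum fun p _ => carries_card p).trans carries_count
  have he : classInner phi phi = ((4 * N / 64 : ℝ) : ℂ) := by
    have hsum : ∀ u : unitri, phi u = ((8 : ℝ)⁻¹ * (2 * ((Finset.univ.filter fun x : L3 =>
        x⁻¹ * (u : L3) * x ∈ unitri ∧ (x⁻¹ * (u : L3) * x).1 0 1 = 1).card : ℝ)) : ℝ) := fun u => by
      simp only [phi, indFun, extend_eq, card_unitri, Finset.sum_ite, Finset.sum_const, nsmul_eq_mul]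
      push_cast
      ring
    conv_lhs => arg 1; unfold phi
    rw [frobenius_reciprocity unitri theta phi_class]
    simp only [classInner, hsum, Complex.conj_ofReal, card_unitri, theta_eq]
    rw [← entries.symm.sum_comp, Fintype.sum_prod_type]
    rw [show (Finset.univ : Finset (ZMod 2)) = {0, 1} from by decide, Finset.sum_pair zero_ne_one]
    simp only [entries, Equiv.coe_fn_symm_mk, show ∀ t, (uniElt t).1 0 1 = t.1 from fun t => rfl, if_pos,
      zero_mul, Finset.sum_const_zero, zero_add, one_ne_zero, if_false, hN]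
    push_cast
    simp only [Finset.mul_sum, Finset.sum_div]
    exact Finset.sum_congr rfl fun p _ => by ring
  rw [he, Complex.ofReal_re]
  have : (N : ℝ) ≤ 48 := by exact_mod_cast hN48
  linarith

end CfsgLib.Bender.LinearThree
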