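import Cfsg.Agent.Lib.Bender.FromB1.Comm.Three
import Cfsg.Agent.Lib.Bender.FromB1.NoRankOne

/-!
When the involutions at a point commute, no element of prime order with three fixed points has a centraliser
without four group: the counterexample is impossible.
-/

set_option autoImplicit false
set_option linter.unusedSectionVars false

namespace CfsgLib.Bender.OneFix

open MulAction Cfsg CfsgLib.Bender.TwoClosed
open CfsgLib.Bender.B1 (Good FourIn)

universe u

variable {G Ω : Type u} [Group G] [MulAction G Ω] [Finite G] [FaithfulSMul G Ω] (hF : OneFix G Ω)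
  (hNB : NoBad G Ω) (hBel : B1.Below.{u} (Nat.card G)) (hnG : ¬ Good G Ω)
include hF hNB hBel hnG

/-- In a counterexample the involutions at a point fixed by an element of rank one do not all commute. -/
theorem not_comm_of_rankOne {a b : Ω} (hab : b ≠ a) {x : G} (hx : x ∈ two a b) (hp : (orderOf x).Prime)
    (h3 : Third a b x) (h4 : ¬ FourIn (Subgroup.centralizer (Subgroup.zpowers x : Set G))) :
    ¬ CommAt G a := by
  intro hc
  haveI := Fact.mk hp
  obtain ⟨e, hea, heb, he⟩ := h3
  have hodd : Odd (orderOf x) := odd_orderOf (odd_two hF hab.symm) hx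
  have hl2 : orderOf x ≠ 2 := fun e => by rw [e] at hodd; exact absurd hodd (by decide)
  have hX : IsPGroup (orderOf x) (Subgroup.zpowers x) :=
    IsPGroup.of_card (n := 1) (by rw [Nat.card_zpowers, pow_one])
  have hfix : ∀ c : Ω, x • c = c → c ∈ fixSet Ω (Subgroup.zpowers x) := fun c hc' y hy =>
    mem_stabilizer_iff.mp (Subgroup.zpowers_le.mpr (mem_stabilizer_iff.mpr hc') hy)
  have ha := hfix a (mem_two.mp hx).1
  have hb := hfix b (mem_two.mp hx).2
  have hmem : ∀ i : G, i * x = x * i → i ∈ Subgroup.centralizer (Subgroup.zpowers x : Set G) := fun i hi => by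
    rw [Subgroup.zpowers_eq_closure, Subgroup.centralizer_closure, Subgroup.mem_centralizer_singleton_iff]
    exact hi
  obtain ⟨huniq, -⟩ := rank_one_case hF hNB hl2 hX ha hb (hfix e he) hab.symm hea.symm heb.symm h4
  obtain ⟨z, hzC, hz, hza⟩ :=
    exists_centre hF hNB hl2 _ hX a b e ha hb (hfix e he) hab.symm hea.symm heb.symm
  have hzx : z * x = x * z := (hzC x (Subgroup.mem_zpowers x)).symm
  obtain ⟨F, instF, finF, instA, ⟨hm⟩⟩ := exists_model hF hNB hBel hnG hab hc hx hp
    (fun i j hi hj hia hja hix hjx => huniq i j hi hj (hmem i hix) (hmem j hjx) hia hja) hz hza hzx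
  haveI : Finite F := Finite.of_fintype F
  have hsurj := rho_surjective hF hNB hBel hnG hab hc hm hp hl2
  generalize hl : orderOf x = l at hm hp hl2 hodd
  obtain ⟨k, hk⟩ := hodd
  rcases (show k = 1 ∨ 2 ≤ k by have := hp.two_le; omega) with rfl | hk2
  · subst hk
    exact not_three hF hBel hnG hc hm hsurj
  · exact not_full hF hc hm hsurj (j := k - 1) (by omega) (by omega)

end CfsgLib.Bender.OneFix
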