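import Cfsg.Agent.Lib.Bender.FromB1.Comm.Kernel
import Cfsg.Agent.Lib.Bender.TwoClosed.Semilinear
import Cfsg.Agent.Lib.SingerFive.Setup
import Cfsg.Agent.S3360
import Mathlib.Algebra.Algebra.ZMod

/-!
Commuting involutions and an element of rank one: the involutions at `a` form a field of order `2 ^ l` on which
`G_ab` acts as the full semilinear group of degree one.

Blueprint: `blueprint/bender/A5.md`, section 2, the case of commuting involutions.
-/

set_option autoImplicit false
set_option linter.unusedSectionVars false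
set_option linter.style.haveILetI false
set_option linter.overlappingInstances false

namespace CfsgLib.Bender.OneFix

open MulAction Cfsg CfsgLib.Bender.TwoClosed
open CfsgLib.Bender.B1 (Good FourIn)
open CfsgLib.SingerFive (mulE mulE_apply autE autE_apply)

universe u v

/-- The involutions at `a` as a field of order `2 ^ l` on which `G_ab` induces every semilinear map. -/
structure Model {G : Type u} {Ω : Type v} [Group G] [MulAction G Ω] (a b : Ω) (l : ℕ) (F : Type) [Field F]
    [Algebra (ZMod 2) F] where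
  /-- The involutions at `a` with `1` as the additive group of the field. -/
  toField : Additive (invs (G := G) a) ≃+ F
  /-- Conjugation as linear maps of the field. -/
  rho : stabilizer G a →* (F ≃ₗ[ZMod 2] F)
  rho_apply : ∀ (g : stabilizer G a) (s : invs (G := G) a),
    rho g (toField (Additive.ofMul s)) = toField (Additive.ofMul (invsConj a g s))
  card : Nat.card F = 2 ^ l
  semi : ∀ (c : Fˣ) (τ : F ≃ₐ[ZMod 2] F), ∃ g : stabilizer G a, (g : G) ∈ two a b ∧ rho g = mulE c * autE τ
  is_semi : ∀ g : stabilizer G a, (g : G) ∈ two a b → ∃ (c : Fˣ) (τ : F ≃ₐ[ZMod 2] F), rho g = mulE c * autE τ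
  card_two : Nat.card ↥(two a b : Subgroup G) = (2 ^ l - 1) * l

variable {G : Type u} {Ω : Type v} [Group G] [MulAction G Ω] {a b : Ω} {l : ℕ} {F : Type} [Field F]
  [Algebra (ZMod 2) F]

theorem Model.rho_eq_one (hm : Model (G := G) a b l F) {g : stabilizer G a} :
    hm.rho g = 1 ↔ (g : G) ∈ cz (G := G) a := by
  rw [← invsConj_eq_one]
  refine ⟨fun h => MulEquiv.ext fun s => ?_, fun h => LinearEquiv.ext fun v => ?_⟩
  · have h1 := hm.rho_apply g s
    rw [h, show (1 : F ≃ₗ[ZMod 2] F) (hm.toField (Additive.ofMul s)) = hm.toField (Additive.ofMul s) from rfl] at h1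
    exact (Additive.ofMul.injective (hm.toField.injective h1)).symm
  · obtain ⟨s, rfl⟩ := hm.toField.surjective v
    exact (hm.rho_apply g (Additive.toMul s)).trans (by rw [h]; rfl)

theorem Model.rho_fix (hm : Model (G := G) a b l F) {g : stabilizer G a} (s : invs (G := G) a) :
    hm.rho g (hm.toField (Additive.ofMul s)) = hm.toField (Additive.ofMul s) ↔ (g : G) * s = (s : G) * g := by
  rw [hm.rho_apply]
  refine ⟨fun h => ?_, fun h => ?_⟩
  · exact mul_inv_eq_iff_eq_mul.mp (congrArg Subtype.val (Additive.ofMul.injective (hm.toField.injective h)) :)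
  · rw [show invsConj a g s = s from Subtype.ext (mul_inv_eq_iff_eq_mul.mpr h)]

end CfsgLib.Bender.OneFix

namespace CfsgLib.Bender.OneFix

open MulAction Cfsg CfsgLib.Bender.TwoClosed
open CfsgLib.Bender.B1 (Good FourIn)
open CfsgLib.SingerFive (mulE mulE_apply autE autE_apply)

universe u

variable {G Ω : Type u} [Group G] [MulAction G Ω] [Finite G] [FaithfulSMul G Ω] (hF : OneFix G Ω)
  (hNB : NoBad G Ω) (hBel : B1.Below.{u} (Nat.card G)) (hnG : ¬ Good G Ω) {a b : Ω} (hab : b ≠ a)
  (hc : CommAt G a) {x : G} (hx : x ∈ two a b) (hp : (orderOf x).Prime)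
  (huniq : ∀ i j : G, IsInv i → IsInv j → i • a = a → j • a = a → i * x = x * i → j * x = x * j → i = j)
  {z : G} (hz : IsInv z) (hza : z • a = a) (hzx : z * x = x * z)
include hF hNB hBel hnG hab hc hx hp huniq hz hza hzx

/-- With an element of rank one there is a model. -/
theorem exists_model :
    ∃ (F : Type) (_ : Field F) (_ : Fintype F) (_ : Algebra (ZMod 2) F),
      Nonempty (Model (G := G) a b (orderOf x) F) := by
  set l := orderOf x with hl
  haveI := Fact.mk hp
  haveI : IsMulCommutative (invs (G := G) a) := invs_comm hc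
  letI : CommGroup (invs (G := G) a) :=
    { (inferInstance : Group (invs (G := G) a)) with mul_comm := fun s t => IsMulCommutative.is_comm.comm s t }
  let V := Additive (invs (G := G) a)
  letI : Module (ZMod 2) V := AddCommGroup.zmodModule fun s => by
    rw [two_nsmul]
    exact congrArg Additive.ofMul (show Additive.toMul s * Additive.toMul s = 1 from
      Subtype.ext (invs_sq hc (Additive.toMul s).2))
  haveI : Finite V := inferInstanceAs (Finite (invs (G := G) a))
  let z' : invs (G := G) a := ⟨z, inv_mem_invs hz hza⟩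
  haveI : Nontrivial V := ⟨⟨Additive.ofMul z', 0, fun e => hz.1 (congrArg Subtype.val (congrArg Additive.toMul e))⟩⟩
  let inc : (two a b : Subgroup G) →* stabilizer G a := Subgroup.inclusion inf_le_left
  let ρ0 : (two a b : Subgroup G) →* (V ≃ₗ[ZMod 2] V) :=
    { toFun := fun d => { MulEquiv.toAdditive (invsConj a (inc d)) with
        map_smul' := fun c s => ZMod.map_smul (MulEquiv.toAdditive (invsConj a (inc d))).toAddMonoidHom c s }
      map_one' := LinearEquiv.ext fun s => by
        show Additive.ofMul (invsConj a (inc 1) (Additive.toMul s)) = s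
        rw [map_one, map_one]
        rfl
      map_mul' := fun d d' => LinearEquiv.ext fun s => by
        show Additive.ofMul (invsConj a (inc (d * d')) (Additive.toMul s)) = _
        rw [map_mul, map_mul]
        rfl }
  have hρ0 : ∀ (d : (two a b : Subgroup G)) (s : invs (G := G) a),
      ρ0 d (Additive.ofMul s) = Additive.ofMul (invsConj a (inc d) s) := fun _ _ => rfl
  have hinj : Function.Injective ρ0 := (injective_iff_map_eq_one ρ0).mpr fun d hd => by
    refine Subtype.ext (congrArg Subtype.val (two_faithful hF hNB hBel hnG hab hc (g := inc d) d.2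
      (MulEquiv.ext fun s => Additive.ofMul.injective ?_)) :)
    rw [← hρ0, hd]
    rfl
  have htr : ∀ v w : V, v ≠ 0 → w ≠ 0 → ∃ d : (two a b : Subgroup G), ρ0 d v = w := fun v w hv hw => by
    obtain ⟨hv1, hv2⟩ := invs_isInv hc (Additive.toMul v).2 (fun e => hv (congrArg Additive.ofMul (Subtype.ext e)))
    obtain ⟨hw1, hw2⟩ := invs_isInv hc (Additive.toMul w).2 (fun e => hw (congrArg Additive.ofMul (Subtype.ext e)))
    obtain ⟨g, hg, he⟩ := OneFix.exists_conj_stab hF hv1 hv2 hw1 hw2 hab.symm
    exact ⟨⟨g, hg⟩, congrArg Additive.ofMul (Subtype.ext he)⟩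
  have hV2 : ∀ v : V, v + v = 0 := fun v =>
    congrArg Additive.ofMul (show Additive.toMul v * Additive.toMul v = 1 from
      Subtype.ext (invs_sq hc (Additive.toMul v).2))
  rcases Cfsg.Agent.S3360.result 2 (Cfsg.Agent.S0205.result (odd_two hF hab.symm)) ρ0 hinj htr with
    ⟨F, instF, finF, e, he⟩ | hexc
  swap
  · have hev : Even (Nat.card V) := by
      rw [even_iff_two_dvd]
      show 2 ∣ Nat.card (invs (G := G) a)
      rw [← CfsgLib.Involutions.orderOf_eq_two_iff'.mpr ⟨hz.2, hz.1⟩]
      exact Subgroup.orderOf_dvd_natCard _ (inv_mem_invs hz hza)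
    simp only [Set.mem_insert_iff, Set.mem_singleton_iff] at hexc
    rcases hexc with h | h | h | h | h | h <;> rw [h] at hev <;> exact absurd hev (by decide)
  haveI : CharP F 2 := (CharP.charP_iff_prime_eq_zero Nat.prime_two).mpr (by
    have h := congrArg e (hV2 (e.symm 1))
    rw [map_add, e.apply_symm_apply, map_zero, one_add_one_eq_two] at h
    exact_mod_cast h)
  letI : Algebra (ZMod 2) F := ZMod.algebra F 2
  haveI : Finite F := Finite.of_fintype F
  set z0 : F := e (Additive.ofMul z') with hz0
  have hz00 : z0 ≠ 0 := fun h => hz.1 (congrArg Subtype.val (congrArg Additive.toMul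
    ((AddEquiv.map_eq_zero_iff e).mp h)))
  obtain ⟨c0, σ0, hσ0⟩ := he ⟨x, hx⟩
  have hxz : ρ0 ⟨x, hx⟩ (Additive.ofMul z') = Additive.ofMul z' :=
    congrArg Additive.ofMul (Subtype.ext (show x * z * x⁻¹ = z by rw [← hzx, mul_inv_cancel_right]))
  have hc0 : c0 * σ0 z0 = z0 := by rw [hz0, ← hσ0, hxz]
  have hfix : ∀ t : F, σ0 t = t → t = 0 ∨ t = 1 := by
    intro t ht
    set s : invs (G := G) a := Additive.toMul (e.symm (t * z0)) with hs
    rcases eq_or_ne (s : G) 1 with h | h
    · left
      have h1 : e.symm (t * z0) = 0 := congrArg Additive.ofMul (Subtype.ext h : s = 1)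
      exact (mul_eq_zero.mp ((AddEquiv.map_eq_zero_iff e.symm).mp h1)).resolve_right hz00
    · right
      have hρ : ρ0 ⟨x, hx⟩ (e.symm (t * z0)) = e.symm (t * z0) := e.injective (by
        rw [hσ0, e.apply_symm_apply, map_mul, ht, mul_left_comm, hc0])
      have hcom : x * (s : G) * x⁻¹ = s := congrArg Subtype.val (congrArg Additive.toMul hρ)
      obtain ⟨hsi, hsa⟩ := invs_isInv hc s.2 h
      have h1 : (s : G) = z := huniq _ _ hsi hz hsa hza (mul_inv_eq_iff_eq_mul.mp hcom).symm hzx
      have h2 : e.symm (t * z0) = Additive.ofMul z' := congrArg Additive.ofMul (Subtype.ext h1 : s = z')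
      exact mul_right_cancel₀ hz00 ((by rw [one_mul, ← e.apply_symm_apply (t * z0), h2] : t * z0 = 1 * z0))
  have hxk : ∀ (k : ℕ) (t : F), ρ0 (⟨x, hx⟩ ^ k) (e.symm (t * z0)) = e.symm ((σ0 ^ k) t * z0) := by
    intro k
    induction k with
    | zero => intro t; rw [pow_zero, map_one, pow_zero]; rfl
    | succ k ih =>
      intro t
      refine e.injective ?_
      rw [pow_succ', map_mul, e.apply_symm_apply, LinearEquiv.mul_apply, ih, hσ0, e.apply_symm_apply, map_mul,
        mul_left_comm, hc0]
      rw [pow_succ' σ0 k]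
      rfl
  have hσl : σ0 ^ l = 1 := RingEquiv.ext fun t => by
    have h := hxk l t
    rw [show (⟨x, hx⟩ : (two a b : Subgroup G)) ^ l = 1 from Subtype.ext (pow_orderOf_eq_one x), map_one] at h
    exact (mul_right_cancel₀ hz00 (e.symm.injective h)).symm
  haveI : Finite (F ≃+* F) := DFunLike.finite _
  have hσ1 : σ0 ≠ 1 := fun h => by
    obtain ⟨s1, s2, h1, h1a, h2, h2a, hne⟩ := exists_two_at hF a
    have hval : ∀ s : G, ∀ hsi : IsInv s, ∀ hsa : s • a = a,
        e (Additive.ofMul (⟨s, inv_mem_invs hsi hsa⟩ : invs (G := G) a)) = z0 := fun s hsi hsa => by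
      rcases hfix (e (Additive.ofMul (⟨s, inv_mem_invs hsi hsa⟩ : invs (G := G) a)) / z0) (by rw [h]; rfl) with h' | h'
      · rcases div_eq_zero_iff.mp h' with h'' | h''
        · exact absurd (congrArg Subtype.val (congrArg Additive.toMul ((AddEquiv.map_eq_zero_iff e).mp h''))) hsi.1
        · exact absurd h'' hz00
      · exact (div_eq_one_iff_eq hz00).mp h'
    exact hne (congrArg Subtype.val (congrArg Additive.toMul (e.injective
      ((hval s1 h1 h1a).trans (hval s2 h2 h2a).symm))))
  have hord : orderOf σ0 = l := orderOf_eq_prime hσl hσ1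
  have hK : ∀ t : F, (∀ k ∈ Subgroup.zpowers σ0, k t = t) → t = 0 ∨ t = 1 :=
    fun t ht => hfix t (ht σ0 (Subgroup.mem_zpowers σ0))
  have hcardF : Nat.card F = 2 ^ l := by rw [card_eq_two_pow _ hK, Nat.card_zpowers, hord]
  have haut : Nat.card (F ≃+* F) = l := by
    have h1 := card_eq_two_pow (⊤ : Subgroup (F ≃+* F)) fun t ht => hfix t (ht σ0 (Subgroup.mem_top σ0))
    rw [Subgroup.card_top, hcardF] at h1
    exact (Nat.pow_right_injective le_rfl h1).symm
  have hunits : Nat.card Fˣ = 2 ^ l - 1 := by rw [Nat.card_units, hcardF]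
  -- the number of elements of the two-point stabiliser
  have hlow : (2 ^ l - 1) * l ≤ Nat.card (two a b : Subgroup G) := by
    letI : MulAction (two a b : Subgroup G) {v : V // v ≠ 0} :=
      { smul := fun d v => ⟨ρ0 d v.1, fun h => v.2 ((ρ0 d).map_eq_zero_iff.mp h)⟩
        one_smul := fun v => Subtype.ext (by show ρ0 1 v.1 = v.1; rw [map_one]; rfl)
        mul_smul := fun d d' v => Subtype.ext (by show ρ0 (d * d') v.1 = ρ0 d (ρ0 d' v.1); rw [map_mul]; rfl) }
    haveI : IsPretransitive (two a b : Subgroup G) {v : V // v ≠ 0} :=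
      ⟨fun v w => ⟨(htr v.1 w.1 v.2 w.2).choose, Subtype.ext (htr v.1 w.1 v.2 w.2).choose_spec⟩⟩
    let v0 : {v : V // v ≠ 0} := ⟨Additive.ofMul z', fun h => hz.1 (congrArg Subtype.val (congrArg Additive.toMul h))⟩
    have h1 : Nat.card {v : V // v ≠ 0} = 2 ^ l - 1 := by
      rw [← hunits, Nat.card_congr unitsEquivNeZero]
      exact Nat.card_congr (e.toEquiv.subtypeEquiv fun v => (AddEquiv.map_ne_zero_iff e).symm)
    have h2 : l ∣ Nat.card (stabilizer (two a b : Subgroup G) v0) := by
      rw [hl, ← Subgroup.orderOf_mk x hx]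
      exact Subgroup.orderOf_dvd_natCard _ (mem_stabilizer_iff.mpr (Subtype.ext hxz))
    rw [← (stabilizer (two a b : Subgroup G) v0).card_mul_index, MulAction.index_stabilizer_of_transitive, h1,
      mul_comm]
    exact Nat.mul_le_mul_right _ (Nat.le_of_dvd Nat.card_pos h2)
  -- every semilinear map occurs
  choose ca σa hca using he
  have hca0 : ∀ d, ca d ≠ 0 := fun d h => by
    have h1 := hca d (Additive.ofMul z')
    rw [h, zero_mul, AddEquiv.map_eq_zero_iff, LinearEquiv.map_eq_zero_iff] at h1
    exact hz.1 (congrArg Subtype.val (congrArg Additive.toMul h1))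
  let Φ : ↥(two a b : Subgroup G) → Fˣ × (F ≃+* F) := fun d => (Units.mk0 (ca d) (hca0 d), σa d)
  have hΦ : Function.Injective Φ := fun d d' h => hinj (LinearEquiv.ext fun v => e.injective (by
    rw [hca, hca, show ca d = ca d' from congrArg (fun p : Fˣ × (F ≃+* F) => ((p.1 : Fˣ) : F)) h,
      show σa d = σa d' from congrArg Prod.snd h]))
  have hΦb : Function.Bijective Φ := (Nat.bijective_iff_injective_and_card Φ).mpr ⟨hΦ,
    le_antisymm (Nat.card_le_card_of_injective Φ hΦ) (by rw [Nat.card_prod, hunits, haut]; exact hlow)⟩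
  have hcard2 : Nat.card (two a b : Subgroup G) = (2 ^ l - 1) * l := by
    rw [Nat.card_eq_of_bijective Φ hΦb, Nat.card_prod, hunits, haut]
  let toAlg : (F ≃+* F) → (F ≃ₐ[ZMod 2] F) := fun σ => AlgEquiv.ofRingEquiv (f := σ) fun r =>
    RingHom.congr_fun (Subsingleton.elim ((σ : F →+* F).comp (algebraMap (ZMod 2) F)) (algebraMap (ZMod 2) F)) r
  let rho : stabilizer G a →* (F ≃ₗ[ZMod 2] F) :=
    { toFun := fun g =>
        { (e.symm.trans ((MulEquiv.toAdditive (invsConj a g)).trans e)) with
          map_smul' := fun c t => ZMod.map_smul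
            (e.symm.trans ((MulEquiv.toAdditive (invsConj a g)).trans e)).toAddMonoidHom c t }
      map_one' := LinearEquiv.ext fun t => by
        show e (Additive.ofMul (invsConj a 1 (Additive.toMul (e.symm t)))) = t
        rw [map_one]
        exact e.apply_symm_apply t
      map_mul' := fun g g' => LinearEquiv.ext fun t => by
        show e (Additive.ofMul (invsConj a (g * g') (Additive.toMul (e.symm t)))) =
          e (Additive.ofMul (invsConj a g (Additive.toMul (e.symm (e (Additive.ofMul (invsConj a g'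
            (Additive.toMul (e.symm t)))))))))
        rw [map_mul, e.symm_apply_apply]
        rfl }
  have hrho : ∀ (d : (two a b : Subgroup G)) (t : F), rho (inc d) t = ca d * σa d t := fun d t => by
    rw [← e.apply_symm_apply t, ← hca d, e.apply_symm_apply]
    rfl
  refine ⟨F, instF, finF, inferInstance, ⟨⟨e, rho, fun g s => ?_, hcardF, fun c τ => ?_, fun g hg => ?_, hcard2⟩⟩⟩
  · show e (Additive.ofMul (invsConj a g (Additive.toMul (e.symm (e (Additive.ofMul s)))))) = _
    rw [e.symm_apply_apply]
    rfl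
  · obtain ⟨d, hd⟩ := hΦb.2 (c, (τ : F ≃+* F))
    refine ⟨inc d, d.2, LinearEquiv.ext fun t => ?_⟩
    rw [hrho, show ca d = (c : F) from congrArg (fun p : Fˣ × (F ≃+* F) => ((p.1 : Fˣ) : F)) hd,
      show σa d = (τ : F ≃+* F) from congrArg Prod.snd hd]
    rfl
  · refine ⟨Units.mk0 _ (hca0 ⟨g, hg⟩), toAlg (σa ⟨g, hg⟩), LinearEquiv.ext fun t => ?_⟩
    exact hrho ⟨g, hg⟩ t

end CfsgLib.Bender.OneFix
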