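import Cfsg.Agent.Lib.Bender.FromB1.NoRankOne

/-!
Commuting involutions at a point: the group they generate, its centraliser in the point stabiliser as a piece,
and the conjugation action.

Blueprint: `blueprint/bender/A5.md`, section 2, the case of commuting involutions.
-/

set_option autoImplicit false
set_option linter.unusedSectionVars false
set_option linter.style.haveILetI false

namespace CfsgLib.Bender.OneFix

open MulAction Cfsg CfsgLib.Bender.TwoClosed
open CfsgLib.Bender.B1 (Good FourIn)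

universe u v

section Invs

variable {G : Type u} {Ω : Type v} [Group G] [MulAction G Ω]

/-- The subgroup generated by the involutions fixing a point. -/
def invs (a : Ω) : Subgroup G := Subgroup.closure {x : G | IsInv x ∧ x • a = a}

/-- All involutions at `a` commute. -/
def CommAt (G : Type u) {Ω : Type v} [Group G] [MulAction G Ω] (a : Ω) : Prop :=
  ∀ x y : G, IsInv x → IsInv y → x • a = a → y • a = a → x * y = y * x

variable {a : Ω}

theorem inv_mem_invs {x : G} (hx : IsInv x) (hxa : x • a = a) : x ∈ invs (G := G) a :=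
  Subgroup.subset_closure ⟨hx, hxa⟩

theorem invs_le : invs (G := G) a ≤ stabilizer G a :=
  (Subgroup.closure_le _).mpr fun _ hx => mem_stabilizer_iff.mpr hx.2

theorem invs_comm (hc : CommAt G a) : IsMulCommutative (invs (G := G) a) :=
  Subgroup.isMulCommutative_closure fun x hx y hy => hc x y hx.1 hy.1 hx.2 hy.2

theorem invs_sq (hc : CommAt G a) {x : G} (hx : x ∈ invs (G := G) a) : x * x = 1 := by
  induction hx using Subgroup.closure_induction with
  | mem y hy => exact hy.1.2
  | one => exact mul_one 1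
  | mul y z hy' hz' hy hz =>
    have h : y * z = z * y := by
      haveI := invs_comm hc
      exact congrArg Subtype.val (IsMulCommutative.is_comm.comm (⟨y, hy'⟩ : invs (G := G) a) ⟨z, hz'⟩)
    calc y * z * (y * z) = y * (z * y) * z := by group
      _ = (y * y) * (z * z) := by rw [← h]; group
      _ = 1 := by rw [hy, hz, mul_one]
  | inv y _ hy => rw [← mul_inv_rev, hy, inv_one]

theorem invs_isInv (hc : CommAt G a) {x : G} (hx : x ∈ invs (G := G) a) (h1 : x ≠ 1) : IsInv x ∧ x • a = a :=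
  ⟨⟨h1, invs_sq hc hx⟩, mem_stabilizer_iff.mp (invs_le hx)⟩

theorem stab_le_normalizer_invs : stabilizer G a ≤ Subgroup.normalizer (invs (G := G) a : Set G) := by
  intro g hg
  have hmap : ∀ h : G, h • a = a → ∀ x ∈ invs (G := G) a, h * x * h⁻¹ ∈ invs (G := G) a := by
    intro h hh x hx
    have hle : invs (G := G) a ≤ (invs (G := G) a).comap (MulAut.conj h).toMonoidHom :=
      (Subgroup.closure_le _).mpr fun y hy => inv_mem_invs (hy.1.conj h) (by
        show (h * y * h⁻¹) • a = a
        nth_rewrite 1 [← hh]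
        rw [smul_conj hy.2, hh])
    exact hle hx
  refine Subgroup.mem_normalizer_iff.mpr fun x => ⟨hmap g (mem_stabilizer_iff.mp hg) x, fun hx => ?_⟩
  have := hmap g⁻¹ (mem_stabilizer_iff.mp (inv_mem hg)) _ hx
  simpa [mul_assoc] using this

/-- Conjugation of the point stabiliser on the group generated by its involutions. -/
noncomputable def invsConj (a : Ω) : stabilizer G a →* MulAut (invs (G := G) a) :=
  (invs (G := G) a).normalizerMonoidHom.comp (Subgroup.inclusion stab_le_normalizer_invs)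

theorem invsConj_apply (g : stabilizer G a) (x : invs (G := G) a) :
    ((invsConj a g x : invs (G := G) a) : G) = (g : G) * x * (g : G)⁻¹ := rfl

theorem invsConj_eq_one {g : stabilizer G a} : invsConj a g = 1 ↔ (g : G) ∈ cz (G := G) a := by
  refine ⟨fun h => mem_cz.mpr ⟨mem_stabilizer_iff.mp g.2, fun x hx hxa => ?_⟩, fun h => ?_⟩
  · exact (mul_inv_eq_iff_eq_mul.mp
      (congrArg Subtype.val (DFunLike.congr_fun h ⟨x, inv_mem_invs hx hxa⟩) :)).symm
  · refine MulEquiv.ext fun x => Subtype.ext ?_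
    rw [invsConj_apply]
    have hle : invs (G := G) a ≤ Subgroup.centralizer ({(g : G)} : Set G) :=
      (Subgroup.closure_le _).mpr fun y hy =>
        Subgroup.mem_centralizer_singleton_iff.mpr ((mem_cz.mp h).2 y hy.1 hy.2)
    rw [← Subgroup.mem_centralizer_singleton_iff.mp (hle x.2), mul_inv_cancel_right]
    rfl

theorem cz_le : cz (G := G) a ≤ stabilizer G a := inf_le_left

theorem cz_conj {h x : G} (hh : h ∈ stabilizer G a) (hx : x ∈ cz (G := G) a) : h * x * h⁻¹ ∈ cz (G := G) a := by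
  have he : invsConj a (⟨h, hh⟩ * ⟨x, cz_le hx⟩ * ⟨h, hh⟩⁻¹) = 1 := by
    rw [map_mul, map_mul, (invsConj_eq_one (g := ⟨x, cz_le hx⟩)).mpr hx, mul_one, map_inv, mul_inv_cancel]
  exact invsConj_eq_one.mp he

theorem inv_mem_cz (hc : CommAt G a) {x : G} (hx : IsInv x) (hxa : x • a = a) : x ∈ cz (G := G) a :=
  mem_cz.mpr ⟨hxa, fun y hy hya => hc y x hy hx hya hxa⟩

theorem odd_cz_two [Finite G] {b : Ω} (hF : OneFix G Ω) (hab : b ≠ a) :
    Odd (Nat.card ↥(cz (G := G) a ⊓ two a b)) :=
  (odd_two hF hab.symm).of_dvd_nat (Subgroup.card_dvd_of_le inf_le_right)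

end Invs

section Piece

variable {G Ω : Type u} [Group G] [MulAction G Ω] [Finite G] [FaithfulSMul G Ω] (hF : OneFix G Ω)
  (hNB : NoBad G Ω) (hBel : B1.Below.{u} (Nat.card G)) {a b : Ω} (hab : b ≠ a) (hc : CommAt G a)
include hF hNB hBel hab hc

/-- Two involutions at `a` centralise an element of `cz a`. -/
theorem four_of_mem_cz {y : G} (hy : y ∈ cz (G := G) a) :
    FourIn (Subgroup.centralizer (Subgroup.zpowers y : Set G)) := by
  obtain ⟨i, j, hi, hia, hj, hja, hne⟩ := exists_two_at hF a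
  have hmem : ∀ {s : G}, IsInv s → s • a = a → s ∈ Subgroup.centralizer (Subgroup.zpowers y : Set G) :=
    fun {s} hs hsa => by
      rw [Subgroup.zpowers_eq_closure, Subgroup.centralizer_closure, Subgroup.mem_centralizer_singleton_iff]
      exact (mem_cz.mp hy).2 s hs hsa
  exact ⟨i, hmem hi hia, j, hmem hj hja, hi, hj, hne, hc i j hi hj hia hja⟩

/-- A 2-element at `a` centralising an element of `G_ab` which centralises every involution at `a` does so too. -/
theorem two_mem_cz {y : G} (hy : y ∈ cz (G := G) a) (hy' : y ∈ two a b) (hp : (orderOf y).Prime) (h3 : Third a b y)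
    {g : G} (hga : g • a = a) (hgy : g * y = y * g) (hk : ∃ k : ℕ, g ^ 2 ^ k = 1) : g ∈ cz (G := G) a := by
  haveI : Fact (Nat.Prime 2) := ⟨Nat.prime_two⟩
  have h4 := four_of_mem_cz hF hNB hBel hab hc hy
  obtain ⟨C, hC, hmem, A, t, Q, hA, hS, hQ⟩ := centraliser_setup hF hNB hBel hab hy' hp h3 h4
  haveI : Finite (B1.centresPerm Ω C).range := Finite.of_surjective _ (MonoidHom.rangeRestrict_surjective _)
  have h4' : FourIn C := by
    obtain ⟨s₁, hs₁, s₂, hs₂, hrest⟩ := h4
    have hin : ∀ s ∈ Subgroup.centralizer (Subgroup.zpowers y : Set G), s ∈ C := fun s hs =>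
      (hC s).mpr (hs y (Subgroup.mem_zpowers y)).symm
    exact ⟨s₁, hin s₁ hs₁, s₂, hin s₂ hs₂, hrest⟩
  let B : B1.centres Ω C := ⟨b, (hmem b).mpr (mem_two.mp hy').2⟩
  have hB : B ≠ A := fun e => hab ((congrArg Subtype.val e).trans hA)
  have hker := B1.odd_centresKer hF (X := C) A.2 B.2 (fun e => hB (Subtype.ext e))
  let φ := (B1.centresPerm Ω C).rangeRestrict
  have hfix : ∀ x : C, (x : G) • a = a → φ x • A = A := fun x hx => Subtype.ext (show (x : G) • (A : Ω) = A by rw [hA, hx])
  have hmemQ : ∀ x : C, (x : G) • a = a → (∃ k : ℕ, x ^ 2 ^ k = 1) → φ x ∈ Q := by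
    rintro x hx ⟨k, hk⟩
    obtain ⟨P, hP⟩ := RankOne.exists_sylow_le hS
    have hPQ : (P : Subgroup (B1.centresPerm Ω C).range) = Q := (P.is_maximal' hQ hP).symm
    have h2 : IsPGroup 2 (Subgroup.zpowers (φ x)) := by
      obtain ⟨j, -, hj⟩ := (Nat.dvd_prime_pow Nat.prime_two).mp
        (orderOf_dvd_of_pow_eq_one (show φ x ^ 2 ^ k = 1 by rw [← map_pow, hk, map_one]))
      exact IsPGroup.of_card (n := j) (by rw [Nat.card_zpowers, hj])
    have hn : Subgroup.zpowers (φ x) ≤ Subgroup.normalizer (Q : Set (B1.centresPerm Ω C).range) :=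
      Subgroup.zpowers_le.mpr (mem_normalizer_of_conj fun z hz => RankOne.conj_Q hS (hfix x hx) hz)
    have h := P.is_maximal' (hQ.to_sup_of_normal_left' h2 hn) (hPQ.le.trans le_sup_left)
    exact hPQ.le (h.le (Subgroup.mem_sup_right (Subgroup.mem_zpowers _)))
  -- all involutions of the regular 2-subgroup are central in it
  have hF' := B1.oneFix_centres hF h4' A.2 B.2 (fun e => hB (Subtype.ext e))
  haveI : Nontrivial Q := Finite.one_lt_card_iff_nontrivial.mp (by
    obtain ⟨j, hj⟩ := hS.even_card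
    have := (Nat.card_pos : 0 < Nat.card Q)
    omega)
  haveI : Nontrivial (Subgroup.center Q) := hQ.center_nontrivial
  obtain ⟨ζ, hζ⟩ := exists_prime_orderOf_dvd_card' (G := Subgroup.center Q) 2 (by
    obtain ⟨j, hj⟩ := IsPGroup.iff_card.mp (hQ.to_subgroup (Subgroup.center Q))
    rw [hj]
    refine dvd_pow_self 2 fun h => ?_
    rw [h, pow_zero] at hj
    exact Finite.one_lt_card.ne' hj)
  obtain ⟨hζ2, hζ1⟩ := CfsgLib.Involutions.orderOf_eq_two_iff'.mp hζ
  set zc : (B1.centresPerm Ω C).range := ((ζ : Q) : (B1.centresPerm Ω C).range) with hzc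
  have hzcI : IsInv zc := ⟨fun e => hζ1 (Subtype.ext (Subtype.ext e)),
    congrArg (fun w : Subgroup.center Q => ((w : Q) : (B1.centresPerm Ω C).range)) hζ2⟩
  have hcentral : ∀ i ∈ Q, IsInv i → ∀ q ∈ Q, q * i = i * q := by
    intro i hi hiI q hq
    obtain ⟨h, hh, rfl⟩ := OneFix.exists_conj_stab hF' hzcI (RankOne.mem_Q_a hS (ζ : Q).2) hiI
      (RankOne.mem_Q_a hS hi) (Ne.symm hB : A ≠ B)
    have hq' : h⁻¹ * q * h ∈ Q := RankOne.conj_Q' hS (mem_two.mp hh).1 hq
    have hcm : h⁻¹ * q * h * zc = zc * (h⁻¹ * q * h) :=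
      congrArg Subtype.val (Subgroup.mem_center_iff.mp ζ.2 ⟨_, hq'⟩)
    calc q * (h * zc * h⁻¹) = h * (h⁻¹ * q * h * zc) * h⁻¹ := by group
      _ = h * (zc * (h⁻¹ * q * h)) * h⁻¹ := by rw [hcm]
      _ = h * zc * h⁻¹ * q := by group
  refine mem_cz.mpr ⟨hga, fun i hi hia => ?_⟩
  let g' : C := ⟨g, (hC g).mpr hgy⟩
  let i' : C := ⟨i, (hC i).mpr ((mem_cz.mp hy).2 i hi hia)⟩
  obtain ⟨k, hk⟩ := hk
  have hgQ := hmemQ g' hga ⟨k, Subtype.ext hk⟩
  have hiQ := hmemQ i' hia ⟨1, Subtype.ext (by rw [SubmonoidClass.coe_pow, pow_one, pow_two]; exact hi.2)⟩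
  have hiI : IsInv (φ i') := by
    refine ⟨fun e => ?_, by rw [← map_mul, show i' * i' = 1 from Subtype.ext hi.2, map_one]⟩
    have hik : i' ∈ (B1.centresPerm Ω C).ker := congrArg Subtype.val e
    exact hab (eq_of_fix hF hi (B1.centresPerm_eq_one hik ((hmem b).mpr (mem_two.mp hy').2)) hia)
  have hcm : φ (g' * i' * g'⁻¹ * i'⁻¹) = 1 := by
    rw [map_mul, map_mul, map_mul, map_inv, map_inv, hcentral _ hiQ hiI _ hgQ]
    group
  have hker' : g' * i' * g'⁻¹ * i'⁻¹ ∈ (B1.centresPerm Ω C).ker := congrArg Subtype.val hcm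
  have hconj : g * i * g⁻¹ ∈ invs (G := G) a :=
    conj_mem_of_normalizer (stab_le_normalizer_invs (mem_stabilizer_iff.mpr hga)) (inv_mem_invs hi hia)
  have h2 := invs_sq hc (mul_mem hconj (inv_mem (inv_mem_invs hi hia)))
  have h1 : g' * i' * g'⁻¹ * i'⁻¹ = 1 := by
    refine congrArg Subtype.val (a₁ := (⟨_, hker'⟩ : (B1.centresPerm Ω C).ker)) (a₂ := 1) ?_
    exact eq_one_of_two_odd (Subtype.ext (Subtype.ext (by rw [pow_two]; exact h2)))
      (hker.of_dvd_nat (orderOf_dvd_natCard _))
  have h1' : g * i * g⁻¹ * i⁻¹ = 1 := congrArg Subtype.val h1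
  rw [mul_inv_eq_one, mul_inv_eq_iff_eq_mul] at h1'
  exact h1'.symm

/-- The centraliser of the involutions at `a` is a piece. -/
theorem piece_cz : Piece a b (cz (G := G) a) := by
  refine ⟨cz_le, fun h hh x hx => cz_conj hh hx, fun y hy _ _ _ => four_of_mem_cz hF hNB hBel hab hc hy, fun y hy hy' hp h3 g hga hgy hk =>
    two_mem_cz hF hNB hBel hab hc hy hy' hp h3 hga hgy hk⟩

/-- If `G_a` induces on its involutions what `G_ab` does, Bender's conclusion holds. -/
theorem good_of_cz_cover (h : cz (G := G) a ⊔ two a b = stabilizer G a) : Good G Ω :=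
  Piece.good hF hNB hBel hab (piece_cz hF hNB hBel hab hc) h

end Piece

end CfsgLib.Bender.OneFix
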