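import Cfsg.Agent.Lib.Bender.FromB1.Comm.Large
import Cfsg.Agent.Lib.Bender.FromB1.Comm.LinearThree

/-!
Commuting involutions and an element of rank one of order three: the linear group of degree three on the
involutions at a point contradicts Engel's form.
-/

set_option autoImplicit false
set_option linter.unusedSectionVars false
set_option linter.style.haveILetI false
set_option linter.overlappingInstances false

namespace CfsgLib.Bender.OneFix

open MulAction Cfsg CfsgLib.Bender.TwoClosed CfsgLib.CharTheory CfsgLib.SuzukiRankOne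
open CfsgLib.Bender.B1 (Good)

universe u v

/-- Inner products pulled back along a surjection. -/
theorem classInner_pull {A : Type u} {B : Type v} [Group A] [Fintype A] [Group B] [Fintype B] {π : A →* B}
    (hπ : Function.Surjective π) (f g : B → ℂ) :
    classInner (fun x => f (π x)) (fun x => g (π x)) = classInner f g := by
  classical
  set k := (Finset.univ.filter fun x : A => π x = 1).card with hk
  have hfib : ∀ b : B, (Finset.univ.filter fun x : A => π x = b).card = k := fun b =>
    MonoidHom.card_fiber_eq_of_mem_range π (hπ b) (hπ 1)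
  have hsum : ∀ F : B → ℂ, ∑ x : A, F (π x) = (k : ℂ) * ∑ b : B, F b := fun F => by
    rw [← Finset.sum_fiberwise Finset.univ π, Finset.mul_sum]
    refine Finset.sum_congr rfl fun b _ => ?_
    rw [Finset.sum_congr rfl (fun x hx => by rw [(Finset.mem_filter.mp hx).2] :
      ∀ x ∈ Finset.univ.filter (fun x : A => π x = b), F (π x) = F b), Finset.sum_const, hfib, nsmul_eq_mul]
  have hcard : Nat.card A = k * Nat.card B := by
    rw [Nat.card_eq_fintype_card, Nat.card_eq_fintype_card, ← Finset.card_univ,
      Finset.card_eq_sum_card_fiberwise (f := π) (t := Finset.univ) fun _ _ => Finset.mem_univ _,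
      Finset.sum_congr rfl fun b _ => hfib b, Finset.sum_const, Finset.card_univ, smul_eq_mul, mul_comm]
  have hk0 : (k : ℂ) ≠ 0 := by
    rw [Nat.cast_ne_zero]
    exact (Finset.card_pos.mpr ⟨1, by simp⟩).ne'
  simp only [classInner]
  rw [hsum fun b => f b * (starRingEnd ℂ) (g b), hcard, Nat.cast_mul, mul_inv, mul_assoc, ← mul_assoc _ (k : ℂ),
    mul_comm ((Nat.card B : ℂ)⁻¹) (k : ℂ), mul_assoc, inv_mul_cancel_left₀ hk0]

variable {G Ω : Type u} [Group G] [MulAction G Ω] [Finite G] [FaithfulSMul G Ω] (hF : OneFix G Ω)
  (hBel : B1.Below.{u} (Nat.card G)) (hnG : ¬ Good G Ω) {a b : Ω} (hc : CommAt G a) {F : Type} [Field F]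
  [Finite F] [Algebra (ZMod 2) F] (hm : Model (G := G) a b 3 F) (hsurj : Function.Surjective hm.rho)
include hF hBel hnG hc hm hsurj

/-- The linear group of degree three does not occur. -/
theorem not_three : False := by
  classical
  haveI := Fintype.ofFinite G
  haveI : FiniteDimensional (ZMod 2) F := Module.Finite.of_finite
  letI : Fintype LinearThree.L3 := Fintype.ofFinite _
  have hd : Module.finrank (ZMod 2) F = 3 := by
    have h := Module.natCard_eq_pow_finrank (K := ZMod 2) (V := F)
    rw [hm.card, Nat.card_zmod] at h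
    exact (Nat.pow_right_injective le_rfl h).symm
  let e : (F ≃ₗ[ZMod 2] F) ≃* LinearThree.L3 :=
    (LinearMap.GeneralLinearGroup.generalLinearEquiv (ZMod 2) F).symm.trans
      (Units.mapEquiv (LinearMap.toMatrixAlgEquiv (Module.finBasisOfFinrankEq (ZMod 2) F hd)).toMulEquiv)
  let π : stabilizer G a →* LinearThree.L3 := e.toMonoidHom.comp hm.rho
  have hπ : Function.Surjective π := e.surjective.comp hsurj
  set f : stabilizer G a → ℂ := fun h => LinearThree.phi (π h) with hf
  have hfc : IsClassFunction (stabilizer G a) f := fun g h => by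
    show LinearThree.phi (π (h * g * h⁻¹)) = LinearThree.phi (π g)
    rw [map_mul, map_mul, map_inv]
    exact LinearThree.phi_class _ _
  have hgen : IsGeneralizedCharacter (stabilizer G a) f := by
    obtain ⟨χ, ψ, hχ, hψ, hd'⟩ := LinearThree.phi_gen
    exact ⟨_, _, isCharacter_comp hχ π, isCharacter_comp hψ π, funext fun h => congrFun hd' (π h)⟩
  have hv : VanishTwo a f := fun x c hca hx => by
    have hodd : Odd (orderOf x) := by
      rw [← orderOf_submonoid]
      exact odd_orderOf (odd_two hF (Ne.symm hca)) (mem_two.mpr ⟨mem_stabilizer_iff.mp x.2, hx⟩)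
    exact LinearThree.phi_odd (hodd.of_dvd_nat (orderOf_map_dvd π x))
  obtain ⟨z, -, hz, hza, -, -, -⟩ := exists_two_at hF a
  let s : stabilizer G a := ⟨z, mem_stabilizer_iff.mpr hza⟩
  have hker : π s = 1 := by
    show e (hm.rho s) = 1
    rw [hm.rho_eq_one.mpr (inv_mem_cz hc hz hza : ((s : stabilizer G a) : G) ∈ cz (G := G) a), map_one]
  have hfs : f s = 0 := by rw [hf]; simp only [hker, LinearThree.phi_one]
  have hwt : wt s f = 0 := by
    refine (mul_eq_zero.mp ((card_sq_mul_wt hfc s).trans ?_)).resolve_left
      (pow_ne_zero 2 (Nat.cast_ne_zero.mpr Nat.card_pos.ne'))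
    refine Finset.sum_eq_zero fun k _ => Finset.sum_eq_zero fun l _ => ?_
    simp only [hf, map_mul, map_inv, hker, mul_one, mul_inv_cancel, LinearThree.phi_one]
  have hwt' : wt z (indFun (stabilizer G a) f) = 0 :=
    (mul_eq_zero.mp ((wt_lift hF hfc hv s hz).trans hwt)).resolve_left
      (Nat.cast_ne_zero.mpr Subgroup.index_ne_zero_of_finite)
  refine engel_false hF hBel hnG hz (isGenChar_indFun _ hgen) ?_ (lift_one hF hfc hv) ?_ hwt' ?_
  · rw [lift_principal hF hfc hv]
    have h := classInner_pull hπ LinearThree.phi (fun _ => (1 : ℂ))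
    rw [LinearThree.phi_principal] at h
    rw [hf, h]
    exact one_ne_zero
  · exact (lift_apply hF hfc hv s).trans hfs
  · rw [lift_inner hF hfc hv hv, hf, classInner_pull hπ LinearThree.phi LinearThree.phi]
    exact LinearThree.phi_norm

end CfsgLib.Bender.OneFix
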